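import Groth.Agent.SDiv.K475.GenStalk
import Groth.Agent.SDiv.K475.Codim1Ring
import Groth.Prelude.Def_MeroSh
import Groth.Agent.VarietyA.StalkCrit
import Groth.Agent.Sga67.LocBasis

/-!
# Sheaves of modules given by families of submodules of a vector space over the function field

For an integral scheme `X`, a vector space `W` over the function field and submodules `P x` of `W` over the local
rings, `mod P` is the sheaf whose sections over a nonempty open `U` are the elements of `W` lying in `P x` for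
all `x ∈ U`.
-/

set_option autoImplicit false
universe u
open CategoryTheory CategoryTheory.Limits AlgebraicGeometry TopologicalSpace Opposite

noncomputable section

namespace K756.LatSh

open Groth.Agent Groth.Agent.CycB K475.GenStalk

set_option linter.unusedSectionVars false

variable {X : Scheme.{u}} [IsIntegral X] {W : Type u} [AddCommGroup W]
  [∀ x : X, Module (X.presheaf.stalk x) W] [Module X.functionField W]
  [∀ x : X, IsScalarTower (X.presheaf.stalk x) X.functionField W]

theorem algebraMap_germ {U : X.Opens} (x : X) (hx : x ∈ U) (hη : η X ∈ U) (r : Γ(X, U)) :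
    algebraMap (X.presheaf.stalk x) X.functionField (X.presheaf.germ U x hx r) =
      X.presheaf.germ U (η X) hη r :=
  TopCat.Presheaf.germ_stalkSpecializes_apply X.presheaf hx (spec x) r

theorem smul_eq (x : X) (r : X.presheaf.stalk x) (w : W) :
    r • w = algebraMap (X.presheaf.stalk x) X.functionField r • w := (algebraMap_smul _ r w).symm

variable (P : ∀ x : X, Submodule (X.presheaf.stalk x) W)

/-- Constant functions with values in the `P x`. -/
def loc : TopCat.LocalPredicate (fun _ : X => W) where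
  pred {U} f := (∀ x y : U, f x = f y) ∧ ∀ x : U, f x ∈ P x.1
  res {U' U} i f h := ⟨fun x y => h.1 _ _, fun x => h.2 ⟨x.1, i.le x.2⟩⟩
  locality {U} f h := by
    refine ⟨fun x y => ?_, fun x => ?_⟩
    · obtain ⟨V, hxV, i, h1, -⟩ := h x
      obtain ⟨V', hyV, j, h2, -⟩ := h y
      have hηV : η X ∈ V := mem_of_nonempty hxV
      have hηW : η X ∈ V' := mem_of_nonempty hyV
      exact (h1 ⟨x.1, hxV⟩ ⟨η X, hηV⟩).trans (h2 ⟨η X, hηW⟩ ⟨y.1, hyV⟩)
    · obtain ⟨V, hxV, i, -, h2⟩ := h x
      exact h2 ⟨x.1, hxV⟩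

instance : Mero.IsModPred (loc P) where
  zero U := ⟨fun _ _ => rfl, fun x => (P x.1).zero_mem⟩
  add U f g hf hg := ⟨fun x y => congrArg₂ (· + ·) (hf.1 x y) (hg.1 x y),
    fun x => (P x.1).add_mem (hf.2 x) (hg.2 x)⟩
  smul U r f hf := ⟨fun x y => by
    change _ • f x = _ • f y
    rw [smul_eq x.1, smul_eq y.1, hf.1 x y,
      algebraMap_germ x.1 x.2 (mem_of_nonempty x.2) r,
      algebraMap_germ y.1 y.2 (mem_of_nonempty x.2) r],
    fun x => (P x.1).smul_mem _ (hf.2 x)⟩

/-- The sheaf of vectors lying in the `P x`. -/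
def mod : X.Modules := Mero.modOf (loc P)

variable {P}

theorem apply_eq {U : X.Opens} (s : Γ(mod P, U)) (x y : U) : s.1 x = s.1 y := s.2.1 x y

theorem apply_mem {U : X.Opens} (s : Γ(mod P, U)) (x : U) : s.1 x ∈ P x.1 := s.2.2 x

theorem ext' {U : X.Opens} {s t : Γ(mod P, U)} (h : ∀ x : U, s.1 x = t.1 x) : s = t :=
  Subtype.ext (funext h)

/-- The section defined by a vector. -/
def mk (U : X.Opens) (a : W) (h : ∀ x ∈ U, a ∈ P x) : Γ(mod P, U) :=
  ⟨fun _ => a, fun _ _ => rfl, fun x => h x.1 x.2⟩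

@[simp] theorem mk_apply (U : X.Opens) (a : W) (h : ∀ x ∈ U, a ∈ P x) (x : U) :
    (mk U a h).1 x = a := rfl

theorem add_apply {U : X.Opens} (s t : Γ(mod P, U)) (x : U) : (s + t).1 x = s.1 x + t.1 x := rfl

theorem smul_apply {U : X.Opens} (r : Γ(X, U)) (s : Γ(mod P, U)) (x : U) :
    (r • s).1 x = X.presheaf.germ U x.1 x.2 r • s.1 x := rfl

theorem smul_val {U : X.Opens} (hη : η X ∈ U) (r : Γ(X, U)) (s : Γ(mod P, U)) (x : U) :
    (r • s).1 x = (X.presheaf.germ U (η X) hη r : X.functionField) • s.1 x := by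
  rw [smul_apply, smul_eq, algebraMap_germ x.1 x.2 hη r]

theorem zero_apply {U : X.Opens} (x : U) : (0 : Γ(mod P, U)).1 x = 0 := rfl

theorem res_apply {U V : X.Opens} (i : V ⟶ U) (s : Γ(mod P, U)) (x : V) :
    ((mod P).presheaf.map i.op s).1 x = s.1 ⟨x.1, i.le x.2⟩ := rfl

variable (P)

/-- The cocone of values. -/
def valCocone (x : X) : Cocone ((OpenNhds.inclusion x).op ⋙ (mod P).presheaf) where
  pt := AddCommGrpCat.of W
  ι :=
    { app := fun V => AddCommGrpCat.ofHom
        { toFun := fun g => (g : Γ(mod P, V.unop.1)).1 ⟨x, V.unop.2⟩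
          map_zero' := rfl
          map_add' := fun _ _ => rfl }
      naturality := fun V W i => by ext g; rfl }

/-- The value of a germ, as a map of abelian groups. -/
def valAdd (x : X) : (mod P).presheaf.stalk x ⟶ AddCommGrpCat.of W :=
  colimit.desc _ (valCocone P x)

theorem valAdd_germ {U : X.Opens} (x : X) (hx : x ∈ U) (g : Γ(mod P, U)) :
    (valAdd P x).hom ((mod P).presheaf.germ U x hx g) = g.1 ⟨x, hx⟩ := by
  change ((mod P).presheaf.germ U x hx ≫ valAdd P x).hom g = _
  have e : (mod P).presheaf.germ U x hx ≫ valAdd P x = (valCocone P x).ι.app (op ⟨U, hx⟩) :=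
    colimit.ι_desc _ _
  rw [e]
  rfl

/-- The value of a germ. -/
def val (x : X) : (mod P).presheaf.stalk x →+ W := (valAdd P x).hom

@[simp] theorem val_germ {U : X.Opens} (x : X) (hx : x ∈ U) (g : Γ(mod P, U)) :
    val P x ((mod P).presheaf.germ U x hx g) = g.1 ⟨x, hx⟩ :=
  valAdd_germ P x hx g

theorem val_injective (x : X) : Function.Injective (val P x) := by
  rw [injective_iff_map_eq_zero]
  intro m hm
  obtain ⟨U, hx, g, rfl⟩ := TopCat.Presheaf.exists_germ_eq (mod P).presheaf m
  rw [val_germ] at hm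
  have : g = 0 := ext' fun y => (apply_eq g y ⟨x, hx⟩).trans hm
  rw [this, map_zero]

theorem range_val (x : X) (a : W) :
    a ∈ Set.range (val P x) ↔ ∃ U : X.Opens, x ∈ U ∧ ∀ y ∈ U, a ∈ P y := by
  constructor
  · rintro ⟨m, rfl⟩
    obtain ⟨U, hx, g, rfl⟩ := TopCat.Presheaf.exists_germ_eq (mod P).presheaf m
    refine ⟨U, hx, fun y hy => ?_⟩
    rw [val_germ, apply_eq g ⟨x, hx⟩ ⟨y, hy⟩]
    exact apply_mem g ⟨y, hy⟩
  · rintro ⟨U, hx, h⟩
    exact ⟨(mod P).presheaf.germ U x hx (mk U a h), val_germ _ _ _ _⟩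

theorem val_spec {x y : X} (h : y ⤳ x) (m : (mod P).presheaf.stalk x) :
    val P y ((mod P).presheaf.stalkSpecializes h m) = val P x m := by
  obtain ⟨U, hx, g, rfl⟩ := TopCat.Presheaf.exists_germ_eq (mod P).presheaf m
  have h1 : (mod P).presheaf.stalkSpecializes h ((mod P).presheaf.germ U x hx g) =
      (mod P).presheaf.germ U y (h.mem_open U.2 hx) g :=
    TopCat.Presheaf.germ_stalkSpecializes_apply (mod P).presheaf hx h g
  rw [h1, val_germ, val_germ]
  exact apply_eq g _ _

theorem inj_mod : Inj (mod P) := by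
  intro x m m' h
  apply val_injective P x
  rw [← val_spec P (spec x) m, h, val_spec]

theorem val_smul (x : X) (a : X.presheaf.stalk x) (m : (mod P).presheaf.stalk x) :
    val P x (a • m) = a • val P x m := by
  obtain ⟨Ua, ha, r, rfl⟩ := TopCat.Presheaf.exists_germ_eq X.presheaf a
  obtain ⟨Ut, ht, g, rfl⟩ := TopCat.Presheaf.exists_germ_eq (mod P).presheaf m
  have hW : x ∈ Ua ⊓ Ut := ⟨ha, ht⟩
  have e1 : X.presheaf.germ Ua x ha r = X.presheaf.germ (Ua ⊓ Ut) x hW
      (X.presheaf.map (homOfLE inf_le_left).op r) :=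
    (TopCat.Presheaf.germ_res_apply X.presheaf _ x hW r).symm
  have e2 : (mod P).presheaf.germ Ut x ht g = (mod P).presheaf.germ (Ua ⊓ Ut) x hW
      ((mod P).presheaf.map (homOfLE inf_le_right).op g) :=
    (TopCat.Presheaf.germ_res_apply (mod P).presheaf _ x hW g).symm
  rw [e1, e2]
  generalize X.presheaf.map (homOfLE inf_le_left).op r = r'
  generalize (mod P).presheaf.map (homOfLE inf_le_right).op g = g'
  have e3 := Mero.germ_smul (mod P) (Ua ⊓ Ut) x hW r' g'
  rw [← e3, val_germ, val_germ]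
  rfl

/-- The value of a germ, as a linear map. -/
def valL (x : X) : (mod P).presheaf.stalk x →ₗ[X.presheaf.stalk x] W where
  toFun := val P x
  map_add' := map_add _
  map_smul' := val_smul P x

@[simp] theorem valL_apply (x : X) (m : (mod P).presheaf.stalk x) : valL P x m = val P x m := rfl

/-- A family is nice when membership is an open condition. -/
def Good : Prop := ∀ (x : X) (a : W), a ∈ P x → ∃ U : X.Opens, x ∈ U ∧ ∀ y ∈ U, a ∈ P y

variable {P}

theorem range_valL (hP : Good P) (x : X) : LinearMap.range (valL P x) = P x := by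
  ext a
  constructor
  · rintro ⟨m, rfl⟩
    obtain ⟨U, hx, h⟩ := (range_val P x _).mp ⟨m, rfl⟩
    exact h x hx
  · intro ha
    obtain ⟨m, hm⟩ := (range_val P x a).mpr (hP x a ha)
    exact ⟨m, hm⟩

/-- The stalk of the sheaf of a good family. -/
def stalkEquiv (hP : Good P) (x : X) : (mod P).presheaf.stalk x ≃ₗ[X.presheaf.stalk x] P x :=
  (LinearEquiv.ofInjective (valL P x) (val_injective P x)).trans (LinearEquiv.ofEq _ _ (range_valL hP x))

@[simp] theorem coe_stalkEquiv (hP : Good P) (x : X) (m : (mod P).presheaf.stalk x) :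
    (stalkEquiv hP x m : W) = val P x m := rfl

/-! ### Nice families -/

variable (P) in
/-- A family is nice of rank `r` when locally all `P y` are spanned by the same `r` vectors, linearly independent over
the function field. -/
def Nice (r : ℕ) : Prop := ∀ x : X, ∃ U : X.Opens, x ∈ U ∧ ∃ v : Fin r → W, LinearIndependent X.functionField v ∧
  ∀ y ∈ U, P y = Submodule.span (X.presheaf.stalk y) (Set.range v)

theorem exists_open_mem_span {r : ℕ} (v : Fin r → W) (x : X) (a : W)
    (ha : a ∈ Submodule.span (X.presheaf.stalk x) (Set.range v)) :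
    ∃ U : X.Opens, x ∈ U ∧ ∀ y ∈ U, a ∈ Submodule.span (X.presheaf.stalk y) (Set.range v) := by
  rw [Submodule.mem_span_range_iff_exists_fun] at ha
  obtain ⟨c, hc⟩ := ha
  choose U hxU g hg using fun i => TopCat.Presheaf.exists_germ_eq X.presheaf (c i)
  have hmem : ∀ y : X, y ∈ (Finset.univ.inf U : X.Opens) ↔ ∀ i, y ∈ U i := by
    intro y
    change y ∈ ((Finset.univ.inf U : X.Opens) : Set X) ↔ _
    rw [TopologicalSpace.Opens.coe_finset_inf]
    simp
  refine ⟨Finset.univ.inf U, (hmem x).mpr hxU, fun y hy => ?_⟩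
  · have hyU : ∀ i, y ∈ U i := (hmem y).mp hy
    rw [Submodule.mem_span_range_iff_exists_fun]
    refine ⟨fun i => X.presheaf.germ (U i) y (hyU i) (g i), ?_⟩
    rw [← hc]
    refine Finset.sum_congr rfl fun i _ => ?_
    rw [smul_eq x, smul_eq y, ← hg i, algebraMap_germ x (hxU i) (mem_of_nonempty (hxU i)),
      algebraMap_germ y (hyU i) (mem_of_nonempty (hxU i))]

theorem Nice.good {r : ℕ} (h : Nice P r) : Good P := by
  intro x a ha
  obtain ⟨U, hx, v, -, hv⟩ := h x
  rw [hv x hx] at ha
  obtain ⟨V, hxV, hV⟩ := exists_open_mem_span v x a ha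
  exact ⟨U ⊓ V, ⟨hx, hxV⟩, fun y hy => by
    rw [hv y hy.1]
    exact hV y hy.2⟩

end K756.LatSh

end
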