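import Groth.Agent.Curves.K756.FamDef
import Groth.Prelude.Def_CohB1
import Groth.Prelude.Def_CurvBase
import Groth.Prelude.Def_Curve
import Groth.Prelude.Def_Omega2
import Groth.Prelude.Def_Twist2
import Mathlib.AlgebraicGeometry.Morphisms.Smooth
import Mathlib.AlgebraicGeometry.Morphisms.ClosedImmersion
import Mathlib.Topology.KrullDimension

/-!
# The dimension bound for families of maps from a curve: statement
-/

set_option autoImplicit false
universe u
open CategoryTheory CategoryTheory.Limits AlgebraicGeometry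

namespace K756.DimDef

/-- For `f : C ⟶ X ⊆ P^N` with image in the smooth locus, `n = dim X` and
`n |B| + 2 ≤ -deg f^*Ω + (n + 1) χ(O_C)` there is a nonconstant one-parameter family of maps through `f` fixing `B`. -/
def DimBound (k : Type u) [Field k] : Prop :=
  ∀ (X : Scheme.{u}) [X.Over (Spec (CommRingCat.of k))] [IsIntegral X]
    (N : ℕ) (ι : X ⟶ CohB1.ProjSpace N k) [IsClosedImmersion ι]
    (_ : ι ≫ CohB1.ProjSpace.toSpec N k = X ↘ Spec (CommRingCat.of k))
    (n : ℕ) (_ : topologicalKrullDim X = n)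
    (C : Scheme.{u}) [C.Over (Spec (CommRingCat.of k))]
    (_ : Curve.IsSmoothProperCurve k C (C ↘ Spec (CommRingCat.of k)))
    (f : C ⟶ X) (_ : f ≫ (X ↘ Spec (CommRingCat.of k)) = C ↘ Spec (CommRingCat.of k))
    (U : X.Opens) (_ : Set.range f.base ⊆ (U : Set X))
    (_ : Smooth (U.ι ≫ (X ↘ Spec (CommRingCat.of k))))
    (B : Finset C) (_ : ∀ b ∈ B, IsClosed ({b} : Set C))
    (_ : (n : ℤ) * B.card + 2 ≤
      - Curv2.deg k C ((Scheme.Modules.pullback f).obj (Omega.sheaf (X ↘ Spec (CommRingCat.of k)))) n +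
        (n + 1) * Curv2.euler k C (Coh.structureModule C)),
    ∃ (T : Scheme.{u}) (_ : T.Over (Spec (CommRingCat.of k))) (t₀ : Spec (CommRingCat.of k) ⟶ T)
      (F : Limits.pullback (C ↘ Spec (CommRingCat.of k)) (T ↘ Spec (CommRingCat.of k)) ⟶ X)
      (s : C ⟶ Limits.pullback (C ↘ Spec (CommRingCat.of k)) (T ↘ Spec (CommRingCat.of k))),
      IsIntegral T ∧ IsSeparated (T ↘ Spec (CommRingCat.of k)) ∧ LocallyOfFiniteType (T ↘ Spec (CommRingCat.of k)) ∧
      CompactSpace T ∧ topologicalKrullDim T = 1 ∧ t₀ ≫ (T ↘ Spec (CommRingCat.of k)) = 𝟙 _ ∧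
      F ≫ (X ↘ Spec (CommRingCat.of k)) =
        Limits.pullback.fst (C ↘ Spec (CommRingCat.of k)) (T ↘ Spec (CommRingCat.of k)) ≫
          (C ↘ Spec (CommRingCat.of k)) ∧
      s ≫ Limits.pullback.fst (C ↘ Spec (CommRingCat.of k)) (T ↘ Spec (CommRingCat.of k)) = 𝟙 C ∧
      s ≫ Limits.pullback.snd (C ↘ Spec (CommRingCat.of k)) (T ↘ Spec (CommRingCat.of k)) =
        (C ↘ Spec (CommRingCat.of k)) ≫ t₀ ∧ f = s ≫ F ∧
      (∀ b ∈ B, ∀ z : ↥(Limits.pullback (C ↘ Spec (CommRingCat.of k)) (T ↘ Spec (CommRingCat.of k))),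
        (Limits.pullback.fst (C ↘ Spec (CommRingCat.of k)) (T ↘ Spec (CommRingCat.of k))).base z = b →
          F.base z = f.base b) ∧
      ¬ ∃ h : C ⟶ X, F = Limits.pullback.fst (C ↘ Spec (CommRingCat.of k)) (T ↘ Spec (CommRingCat.of k)) ≫ h

end K756.DimDef
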