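import Groth.Agent.Curves.K756.DimBound
import Groth.Agent.Curves.K354.FrobTw
import Groth.Agent.RatCurv.K888.FamFix

/-!
# A smooth projective variety in characteristic `p` with a curve of negative canonical degree contains a rational curve
-/

set_option autoImplicit false
set_option backward.isDefEq.respectTransparency.types false
universe u
open CategoryTheory CategoryTheory.Limits AlgebraicGeometry TopologicalSpace MonoidalCategory
  CartesianMonoidalCategory

namespace K756.AsmSmooth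

variable (k : Type u) [Field k] [IsAlgClosed k]

/-- A nonconstant one-parameter family of maps fixing a closed point produces a rational curve through its image. -/
theorem exists_curve (X : Scheme.{u}) [X.Over (Spec (CommRingCat.of k))]
    {N : ℕ} (ι : X ⟶ CohB1.ProjSpace N k) [IsClosedImmersion ι]
    (hι : ι ≫ CohB1.ProjSpace.toSpec N k = X ↘ Spec (CommRingCat.of k))
    (C : Scheme.{u}) [C.Over (Spec (CommRingCat.of k))]
    (hC : Curve.IsSmoothProperCurve k C (C ↘ Spec (CommRingCat.of k)))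
    (T : Scheme.{u}) [T.Over (Spec (CommRingCat.of k))] [IsIntegral T] [IsSeparated (T ↘ Spec (CommRingCat.of k))]
    [LocallyOfFiniteType (T ↘ Spec (CommRingCat.of k))] [CompactSpace T] (hT : topologicalKrullDim T = 1)
    (F : Limits.pullback (C ↘ Spec (CommRingCat.of k)) (T ↘ Spec (CommRingCat.of k)) ⟶ X)
    (hF : F ≫ (X ↘ Spec (CommRingCat.of k)) =
      Limits.pullback.fst (C ↘ Spec (CommRingCat.of k)) (T ↘ Spec (CommRingCat.of k)) ≫
        (C ↘ Spec (CommRingCat.of k)))
    (f : C ⟶ X) (hf : f ≫ (X ↘ Spec (CommRingCat.of k)) = C ↘ Spec (CommRingCat.of k))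
    (b : C) (hb : IsClosed ({b} : Set C))
    (hfix : ∀ z : ↥(Limits.pullback (C ↘ Spec (CommRingCat.of k)) (T ↘ Spec (CommRingCat.of k))),
      (Limits.pullback.fst (C ↘ Spec (CommRingCat.of k)) (T ↘ Spec (CommRingCat.of k))).base z = b →
        F.base z = f.base b)
    (hnc : ¬ ∃ h : C ⟶ X, F = Limits.pullback.fst (C ↘ Spec (CommRingCat.of k)) (T ↘ Spec (CommRingCat.of k)) ≫ h) :
    ∃ g : CohB1.ProjSpace 1 k ⟶ X, g ≫ (X ↘ Spec (CommRingCat.of k)) = CohB1.ProjSpace.toSpec 1 k ∧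
      (¬ ∃ x : X, Set.range g.base ⊆ {x}) ∧ f.base b ∈ Set.range g.base := by
  have hXp : IsProper (X ↘ Spec (CommRingCat.of k)) := K888.NotExt.isProper_of_closedImmersion (Over.mk (X ↘ _)) ι hι
  have hCp := hC.1
  let XO : Over (Spec (CommRingCat.of k)) := Over.mk (X ↘ Spec (CommRingCat.of k))
  let CO : Over (Spec (CommRingCat.of k)) := Over.mk (C ↘ Spec (CommRingCat.of k))
  let TO : Over (Spec (CommRingCat.of k)) := Over.mk (T ↘ Spec (CommRingCat.of k))
  have i1 : IsIntegral CO.left := hC.2.2.1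
  have i2 : Smooth CO.hom := hC.2.1
  have i3 : IsIntegral TO.left := ‹IsIntegral T›
  have i4 : IsSeparated TO.hom := ‹IsSeparated (T ↘ Spec (CommRingCat.of k))›
  have i5 : LocallyOfFiniteType TO.hom := ‹LocallyOfFiniteType (T ↘ Spec (CommRingCat.of k))›
  have i6 : QuasiCompact TO.hom := inferInstanceAs (QuasiCompact (T ↘ Spec (CommRingCat.of k)))
  let F' : CO ⊗ TO ⟶ XO := Over.homMk F hF
  let c : 𝟙_ (Over (Spec (CommRingCat.of k))) ⟶ CO :=
    Over.homMk (pointOfClosedPoint (C ↘ Spec (CommRingCat.of k)) b hb)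
      (pointOfClosedPoint_comp (C ↘ Spec (CommRingCat.of k)) b hb)
  let f' : CO ⟶ XO := Over.homMk f hf
  have hfix' : lift (toUnit TO ≫ c) (𝟙 TO) ≫ F' = toUnit TO ≫ (c ≫ f') := by
    ext1
    have hr : IsReduced T := inferInstance
    have e1 : (lift (toUnit TO ≫ c) (𝟙 TO) ≫ F').left ≫ (X ↘ Spec (CommRingCat.of k)) =
      T ↘ Spec (CommRingCat.of k) := Over.w (lift (toUnit TO ≫ c) (𝟙 TO) ≫ F')
    have e2 : (toUnit TO ≫ (c ≫ f')).left ≫ (X ↘ Spec (CommRingCat.of k)) =
      T ↘ Spec (CommRingCat.of k) := Over.w (toUnit TO ≫ (c ≫ f'))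
    have e3 : LocallyOfFiniteType ((lift (toUnit TO ≫ c) (𝟙 TO) ≫ F').left ≫ (X ↘ Spec (CommRingCat.of k))) := by
      rw [e1]
      infer_instance
    have hcb : ∀ u : ↥(Spec (CommRingCat.of k)), (pointOfClosedPoint (C ↘ Spec (CommRingCat.of k)) b hb) u = b :=
      fun u => pointOfClosedPoint_apply (C ↘ Spec (CommRingCat.of k)) b hb u
    refine ext_of_apply_eq (X ↘ Spec (CommRingCat.of k)) (f := (lift (toUnit TO ≫ c) (𝟙 TO) ≫ F').left)
      (g := (toUnit TO ≫ (c ≫ f')).left) (Set.univ : Set T) isClosed_univ.isLocallyClosed dense_univ ?_ ?_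
    · intro x _ _
      have h1 : F.base ((lift (toUnit TO ≫ c) (𝟙 TO)).left.base x) = f.base b := by
        apply hfix
        have h2 : (lift (toUnit TO ≫ c) (𝟙 TO)) ≫ fst CO TO = toUnit TO ≫ c := lift_fst _ _
        have h3 := congrArg (fun m : TO ⟶ CO => m.left.base x) h2
        exact h3.trans (hcb _)
      refine Eq.trans ?_ (h1.trans ?_)
      · rfl
      · exact (congrArg f.base (hcb _)).symm
    · rw [e1, e2]
  obtain ⟨g, t, hg, hnc'⟩ := K888.FamFix.exists_rational_curve_through XO CO TO hC.2.2.2 hT ι hι F' c (c ≫ f') hfix' (by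
    rintro ⟨G, hG⟩
    exact hnc ⟨G.left, congrArg (fun m => m.left) hG⟩)
  refine ⟨g.left, Over.w g, hnc', t.left.base (IsLocalRing.closedPoint k), ?_⟩
  have h1 := congrArg (fun m : 𝟙_ (Over (Spec (CommRingCat.of k))) ⟶ XO => m.left.base (IsLocalRing.closedPoint k)) hg
  refine h1.trans ?_
  exact congrArg f.base (pointOfClosedPoint_apply (C ↘ Spec (CommRingCat.of k)) b hb (IsLocalRing.closedPoint k))

theorem main (p : ℕ) [Fact p.Prime] [CharP k p]
    (X : Scheme.{u}) [X.Over (Spec (CommRingCat.of k))] [IsIntegral X]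
    [Smooth (X ↘ Spec (CommRingCat.of k))]
    (hproj : ∃ (n : ℕ) (ι : X ⟶ CohB1.ProjSpace n k), IsClosedImmersion ι ∧
      ι ≫ CohB1.ProjSpace.toSpec n k = X ↘ Spec (CommRingCat.of k))
    (m : ℕ) (hm : topologicalKrullDim X = m)
    (C : Scheme.{u}) [C.Over (Spec (CommRingCat.of k))]
    (hC : Curve.IsSmoothProperCurve k C (C ↘ Spec (CommRingCat.of k)))
    (h : C ⟶ X) (hh : h ≫ (X ↘ Spec (CommRingCat.of k)) = C ↘ Spec (CommRingCat.of k))
    (hdeg : Curv2.deg k C ((Scheme.Modules.pullback h).obj (Omega.sheaf (X ↘ Spec (CommRingCat.of k)))) m < 0) :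
    ∃ g : CohB1.ProjSpace 1 k ⟶ X, g ≫ (X ↘ Spec (CommRingCat.of k)) = CohB1.ProjSpace.toSpec 1 k ∧
      ¬ ∃ x : X, Set.range g.base ⊆ {x} := by
  obtain ⟨N, ι, hιc, hι⟩ := hproj
  have hXp : IsProper (X ↘ Spec (CommRingCat.of k)) := K888.NotExt.isProper_of_closedImmersion (Over.mk (X ↘ _)) ι hι
  have hCi : IsIntegral C := hC.2.2.1
  have hloc : FlatMod.IsFinLocFreeOfRank m ((Scheme.Modules.pullback h).obj
      (Omega.sheaf (X ↘ Spec (CommRingCat.of k)))) :=
    K40.TanDual.isFinLocFreeOfRank_pullback (X ↘ Spec (CommRingCat.of k)) m hm h ⊤ (fun _ _ => trivial) inferInstance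
  obtain ⟨C', _, φ, q, hC', hφ, hbij, hQ, hχ, hd⟩ := K354.FrobTw.exists_twist k p C hC
    (2 * m + 2 + ((m + 1) * Curv2.euler k C (Coh.structureModule C)).natAbs)
  have hCi' : IsIntegral C' := hC'.2.2.1
  -- a closed point
  obtain ⟨b, hb⟩ : ∃ b : C', IsClosed ({b} : Set C') := by
    have hp := hC'.1
    have : JacobsonSpace C' := LocallyOfFiniteType.jacobsonSpace (C' ↘ Spec (CommRingCat.of k))
    obtain ⟨b, -, hb⟩ := nonempty_inter_closedPoints (Z := (Set.univ : Set C')) Set.univ_nonempty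
      isClosed_univ.isLocallyClosed
    exact ⟨b, hb⟩
  have hf' : (φ ≫ h) ≫ (X ↘ Spec (CommRingCat.of k)) = C' ↘ Spec (CommRingCat.of k) := by
    rw [Category.assoc, hh, hφ]
  have hdeg' : Curv2.deg k C' ((Scheme.Modules.pullback (φ ≫ h)).obj
      (Omega.sheaf (X ↘ Spec (CommRingCat.of k)))) m =
      q * Curv2.deg k C ((Scheme.Modules.pullback h).obj (Omega.sheaf (X ↘ Spec (CommRingCat.of k)))) m := by
    rw [← hd m _ hloc]
    exact (K354.FrobTw.deg_congr k ((Scheme.Modules.pullbackComp φ h).app _) m).symm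
  obtain ⟨T, _, t₀, F, s, hTi, hTs, hTf, hTc, hTd, ht₀, hF, hs, hs', hfs, hfix, hnc⟩ :=
    K756.DimBound.dimBound k X N ι hι m hm C' hC' (φ ≫ h) hf' ⊤ (fun _ _ => trivial) inferInstance {b}
      (fun b' hb' => by rwa [Finset.mem_singleton.mp hb']) (by
        rw [hdeg', hχ, Finset.card_singleton]
        have h1 : (m + 1) * Curv2.euler k C (Coh.structureModule C) ≥
          -(((m + 1) * Curv2.euler k C (Coh.structureModule C)).natAbs : ℤ) := by omega
        have h2 : (2 * m + 2 + (((m + 1) * Curv2.euler k C (Coh.structureModule C)).natAbs : ℤ)) ≤ q := by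
          exact_mod_cast hQ
        have h3 : (q : ℤ) ≤ -(q * Curv2.deg k C ((Scheme.Modules.pullback h).obj
            (Omega.sheaf (X ↘ Spec (CommRingCat.of k)))) m) := by
          nlinarith
        push_cast
        linarith)
  obtain ⟨g, hg, hg', -⟩ := exists_curve k X ι hι C' hC' T hTd F hF (φ ≫ h) hf' b hb
    (hfix b (Finset.mem_singleton_self b)) hnc
  exact ⟨g, hg, hg'⟩

end K756.AsmSmooth
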