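import Groth.Agent.Curves.K756.DerExt
import Mathlib.RingTheory.MvPolynomial.EulerIdentity
import Mathlib.RingTheory.MvPolynomial.Homogeneous
import Mathlib.RingTheory.Localization.FractionRing

/-!
# Local lifting of normal functionals

`coneI c`: the ideal of polynomials all of whose homogeneous components vanish at the tuple `c`.

`exists_lift`: `P` formally smooth over `k`, `c` a tuple of elements of `P` with `c i = 1` whose coordinates generate `P`
up to fractions; every functional `ν` on `coneI c` with values in a field `K`, linear over evaluation at `s = v c`, with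
`ν G ∈ v ^ n M` for `G` homogeneous of degree `n`, is of the form `G ↦ ∑ ∂_l G (s) (v m_l)` with `m_l ∈ M`.
-/

set_option autoImplicit false
universe u

open MvPolynomial

namespace K756.LocLift

section Cone

variable {k : Type u} [Field k] {σ : Type}

/-- Scaling in a homogeneous polynomial. -/
theorem aeval_smul {B : Type*} [CommRing B] [Algebra k B] (v : B) (b : σ → B) {n : ℕ}
    {G : MvPolynomial σ k} (hG : G.IsHomogeneous n) :
    aeval (fun l => v * b l) G = v ^ n * aeval b G := by
  rw [aeval_def, aeval_def, eval₂_eq, eval₂_eq, Finset.mul_sum]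
  apply Finset.sum_congr rfl
  intro s hs
  have hd : ∑ j ∈ s.support, s j = n := by
    have := hG (mem_support_iff.1 hs)
    rw [← this, Finsupp.weight_apply, Finsupp.sum]
    simp
  rw [← hd, ← Finset.prod_pow_eq_pow_sum]
  simp only [mul_pow, Finset.prod_mul_distrib]
  ring

/-- The ideal of polynomials all of whose homogeneous components vanish at `c`. -/
noncomputable def coneI {P : Type*} [CommRing P] [Algebra k P] (c : σ → P) : Ideal (MvPolynomial σ k) :=
  RingHom.ker (aeval (fun l => Polynomial.X * Polynomial.C (c l)) : MvPolynomial σ k →ₐ[k] Polynomial P)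

theorem aeval_polyC {P : Type*} [CommRing P] [Algebra k P] (c : σ → P) (G : MvPolynomial σ k) :
    aeval (fun l => Polynomial.C (c l)) G = (Polynomial.C (aeval c G) : Polynomial P) := by
  have h1 : (Polynomial.CAlgHom : P →ₐ[k] Polynomial P).comp (aeval c) = aeval (fun l => Polynomial.C (c l)) := by
    apply MvPolynomial.algHom_ext
    intro l
    simp
  have h2 := AlgHom.congr_fun h1 G
  exact h2.symm

theorem aeval_cone_of_homogeneous {P : Type*} [CommRing P] [Algebra k P] (c : σ → P) {n : ℕ}
    {G : MvPolynomial σ k} (hG : G.IsHomogeneous n) :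
    aeval (fun l => Polynomial.X * Polynomial.C (c l)) G =
      (Polynomial.X ^ n * Polynomial.C (aeval c G) : Polynomial P) := by
  rw [aeval_smul _ _ hG, aeval_polyC]

theorem mem_coneI_of_homogeneous {P : Type*} [CommRing P] [Algebra k P] (c : σ → P) {n : ℕ}
    {G : MvPolynomial σ k} (hG : G.IsHomogeneous n) : G ∈ coneI c ↔ aeval c G = 0 := by
  rw [coneI, RingHom.mem_ker]
  change aeval (fun l => Polynomial.X * Polynomial.C (c l)) G = 0 ↔ _
  rw [aeval_cone_of_homogeneous c hG]
  constructor
  · intro h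
    have h1 := congrArg (fun p => Polynomial.coeff p n) h
    rw [Polynomial.coeff_X_pow_mul', if_pos le_rfl, Nat.sub_self, Polynomial.coeff_C_zero, Polynomial.coeff_zero] at h1
    exact h1
  · intro h
    rw [h, map_zero, mul_zero]

theorem coeff_cone {P : Type*} [CommRing P] [Algebra k P] (c : σ → P) (G : MvPolynomial σ k) (n : ℕ) :
    (aeval (fun l => Polynomial.X * Polynomial.C (c l)) G : Polynomial P).coeff n =
      aeval c (homogeneousComponent n G) := by
  conv_lhs => rw [← sum_homogeneousComponent G, map_sum]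
  rw [Polynomial.finsetSum_coeff]
  have h1 : ∀ i, (aeval (fun l => Polynomial.X * Polynomial.C (c l)) (homogeneousComponent i G) :
      Polynomial P).coeff n = if n = i then aeval c (homogeneousComponent i G) else 0 := by
    intro i
    rw [aeval_cone_of_homogeneous c (homogeneousComponent_isHomogeneous i G), Polynomial.coeff_X_pow_mul',
      Polynomial.coeff_C]
    by_cases h : n = i
    · subst h; simp
    · rw [if_neg h]
      split_ifs with h2 h3
      · omega
      · rfl
      · rfl
  simp only [h1]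
  rw [Finset.sum_ite_eq]
  split_ifs with h
  · rfl
  · rw [homogeneousComponent_eq_zero n G (by
      rw [Finset.mem_range] at h; omega), map_zero]

theorem mem_coneI {P : Type*} [CommRing P] [Algebra k P] (c : σ → P) (G : MvPolynomial σ k) :
    G ∈ coneI c ↔ ∀ n, aeval c (homogeneousComponent n G) = 0 := by
  rw [coneI, RingHom.mem_ker]
  change aeval (fun l => Polynomial.X * Polynomial.C (c l)) G = 0 ↔ _
  rw [Polynomial.ext_iff]
  simp only [coeff_cone, Polynomial.coeff_zero]

theorem component_mem {P : Type*} [CommRing P] [Algebra k P] {c : σ → P} {G : MvPolynomial σ k}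
    (hG : G ∈ coneI c) (n : ℕ) : homogeneousComponent n G ∈ coneI c :=
  (mem_coneI_of_homogeneous c (homogeneousComponent_isHomogeneous n G)).2 ((mem_coneI c G).1 hG n)

/-- Membership in the cone ideal is invariant under injective base change and scaling. -/
theorem coneI_eq {P Q : Type*} [CommRing P] [Algebra k P] [CommRing Q] [Algebra k Q] (χ : P →ₐ[k] Q)
    (hχ : Function.Injective χ) (c : σ → P) (v : Q) (hv : IsUnit v) (d : σ → Q) (hd : ∀ l, d l = v * χ (c l)) :
    coneI d = coneI (k := k) c := by
  ext G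
  rw [mem_coneI, mem_coneI]
  refine forall_congr' fun n => ?_
  have h1 : d = fun l => v * χ (c l) := funext hd
  have h2 : aeval (fun l => χ (c l)) (homogeneousComponent n G) = χ (aeval c (homogeneousComponent n G)) := by
    rw [← AlgHom.comp_apply, MvPolynomial.comp_aeval]
  rw [h1, aeval_smul _ _ (homogeneousComponent_isHomogeneous n G), h2, (hv.pow n).mul_right_eq_zero,
    map_eq_zero_iff _ hχ]

theorem coneI_le {P Q : Type*} [CommRing P] [Algebra k P] [CommRing Q] [Algebra k Q] (χ : P →ₐ[k] Q)
    (c : σ → P) (v : Q) (d : σ → Q) (hd : ∀ l, d l = v * χ (c l)) :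
    coneI (k := k) c ≤ coneI d := by
  intro G hG
  rw [mem_coneI] at hG ⊢
  intro n
  have h1 : d = fun l => v * χ (c l) := funext hd
  have h2 : aeval (fun l => χ (c l)) (homogeneousComponent n G) = χ (aeval c (homogeneousComponent n G)) := by
    rw [← AlgHom.comp_apply, MvPolynomial.comp_aeval]
  rw [h1, aeval_smul _ _ (homogeneousComponent_isHomogeneous n G), h2, hG n, map_zero, mul_zero]

theorem aeval_eq_zero {P : Type*} [CommRing P] [Algebra k P] {c : σ → P} {G : MvPolynomial σ k}
    (hG : G ∈ coneI c) : aeval c G = 0 := by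
  rw [← sum_homogeneousComponent G, map_sum]
  exact Finset.sum_eq_zero fun n _ => (mem_coneI c G).1 hG n

/-- Euler's identity at a point of the cone. -/
theorem sum_pderiv_mul [Fintype σ] {P : Type*} [CommRing P] [Algebra k P] {c : σ → P} {G : MvPolynomial σ k}
    (hG : G ∈ coneI c) : ∑ l, aeval c (pderiv l G) * c l = 0 := by
  rw [← sum_homogeneousComponent G]
  simp only [map_sum, Finset.sum_mul]
  rw [Finset.sum_comm]
  refine Finset.sum_eq_zero fun n _ => ?_
  have h1 := (homogeneousComponent_isHomogeneous n G).sum_X_mul_pderiv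
  have h2 := congrArg (aeval c) h1
  rw [map_sum, map_nsmul, (mem_coneI c G).1 hG n, smul_zero] at h2
  rw [← h2]
  refine Finset.sum_congr rfl fun l _ => ?_
  rw [map_mul, aeval_X, mul_comm]

end Cone

section Rep

variable {k : Type u} [Field k] {σ : Type}

/-- `G` is the homogenization of `g` in degree `n` with respect to the variable `i`. -/
def Rep (i : σ) (g : MvPolynomial σ k) (n : ℕ) (G : MvPolynomial σ k) : Prop :=
  G.IsHomogeneous n ∧ ∀ (B : Type u) [CommRing B] [Algebra k B] (v : B) (b : σ → B), b i = 1 →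
    aeval (fun l => v * b l) G = v ^ n * aeval b g

variable {i : σ}

theorem Rep.up {g : MvPolynomial σ k} {n : ℕ} {G : MvPolynomial σ k} (h : Rep i g n G) (m : ℕ) :
    Rep i g (m + n) (X i ^ m * G) := by
  refine ⟨(isHomogeneous_X_pow i m).mul h.1, fun B _ _ v b hb => ?_⟩
  rw [map_mul, map_pow, aeval_X, h.2 B v b hb, hb, mul_one, pow_add, mul_assoc]

theorem Rep.add {g g' : MvPolynomial σ k} {n : ℕ} {G G' : MvPolynomial σ k} (h : Rep i g n G)
    (h' : Rep i g' n G') : Rep i (g + g') n (G + G') := by
  refine ⟨h.1.add h'.1, fun B _ _ v b hb => ?_⟩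
  rw [map_add, map_add, h.2 B v b hb, h'.2 B v b hb, mul_add]

theorem Rep.mul {g g' : MvPolynomial σ k} {n n' : ℕ} {G G' : MvPolynomial σ k} (h : Rep i g n G)
    (h' : Rep i g' n' G') : Rep i (g * g') (n + n') (G * G') := by
  refine ⟨h.1.mul h'.1, fun B _ _ v b hb => ?_⟩
  rw [map_mul, map_mul, h.2 B v b hb, h'.2 B v b hb, pow_add]
  ring

theorem Rep.of_homogeneous {n : ℕ} {G : MvPolynomial σ k} (hG : G.IsHomogeneous n) : Rep i G n G :=
  ⟨hG, fun _ _ _ v b _ => aeval_smul v b hG⟩

theorem exists_rep (i : σ) (g : MvPolynomial σ k) : ∃ n G, Rep i g n G := by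
  induction g using MvPolynomial.induction_on with
  | C a => exact ⟨0, C a, Rep.of_homogeneous (isHomogeneous_C _ a)⟩
  | add p q hp hq =>
    obtain ⟨n, G, h⟩ := hp
    obtain ⟨n', G', h'⟩ := hq
    have h1 := h'.up n
    rw [add_comm] at h1
    exact ⟨n' + n, _, (h.up n').add h1⟩
  | mul_X p l hp =>
    obtain ⟨n, G, h⟩ := hp
    exact ⟨n + 1, _, h.mul (Rep.of_homogeneous (isHomogeneous_X k l))⟩

theorem Rep.unique {g : MvPolynomial σ k} {n : ℕ} {G G' : MvPolynomial σ k} (h : Rep i g n G)
    (h' : Rep i g n G') : G = G' := by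
  let Q := FractionRing (MvPolynomial σ k)
  let x : σ → Q := fun l => algebraMap (MvPolynomial σ k) Q (X l)
  have hx : ∀ l, x l ≠ 0 := fun l => by
    rw [Ne, FaithfulSMul.algebraMap_eq_zero_iff]
    exact X_ne_zero l
  have h1 := h.2 Q (x i) (fun l => x l / x i) (div_self (hx i))
  have h2 := h'.2 Q (x i) (fun l => x l / x i) (div_self (hx i))
  rw [← h2] at h1
  have h3 : (fun l => x i * (x l / x i)) = fun l => algebraMap (MvPolynomial σ k) Q (X l) :=
    funext fun l => mul_div_cancel₀ _ (hx i)
  have h4 : ∀ G : MvPolynomial σ k, aeval (fun l => algebraMap (MvPolynomial σ k) Q (X l)) G =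
      algebraMap (MvPolynomial σ k) Q G := fun G => by
    have h5 : (aeval (fun l => algebraMap (MvPolynomial σ k) Q (X l)) : MvPolynomial σ k →ₐ[k] Q) =
        IsScalarTower.toAlgHom k (MvPolynomial σ k) Q := by
      apply MvPolynomial.algHom_ext
      intro l
      simp
    rw [h5]
    rfl
  rw [h3, h4, h4] at h1
  exact FaithfulSMul.algebraMap_injective _ Q h1

theorem Rep.mem_coneI {P : Type u} [CommRing P] [Algebra k P] {c : σ → P} (hc : c i = 1)
    {g : MvPolynomial σ k} {n : ℕ} {G : MvPolynomial σ k} (h : Rep i g n G) (hg : aeval c g = 0) :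
    G ∈ coneI c := by
  rw [mem_coneI_of_homogeneous c h.1]
  have h1 := h.2 P 1 c hc
  rw [one_pow, one_mul, hg] at h1
  simpa only [one_mul] using h1

end Rep

section Lift

variable {k : Type u} [Field k] {σ : Type} [Fintype σ] {P K : Type u} [CommRing P] [Algebra k P]
  [Algebra.FormallySmooth k P] [Field K] [Algebra k K] {M : Type u} [AddCommGroup M] [Module P M]

theorem sum_pderiv_smul {A M' : Type*} [AddCommGroup M'] [CommRing A] [Algebra k A] [Module A M'] [Module k M']
    [IsScalarTower k A M'] (ψ : MvPolynomial σ k →ₐ[k] A) (δ : MvPolynomial σ k → M')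
    (hadd : ∀ a b, δ (a + b) = δ a + δ b) (hmul : ∀ a b, δ (a * b) = ψ a • δ b + ψ b • δ a)
    (hC : ∀ a, δ (C a) = 0) (G : MvPolynomial σ k) : δ G = ∑ l, ψ (pderiv l G) • δ (X l) := by
  classical
  induction G using MvPolynomial.induction_on with
  | C a => simp [hC]
  | add p q hp hq =>
    rw [hadd, hp, hq]
    simp only [map_add, add_smul, Finset.sum_add_distrib]
  | mul_X p m hp =>
    rw [hmul, hp]
    simp only [Derivation.leibniz, smul_eq_mul, map_add, map_mul, add_smul, Finset.sum_add_distrib, pderiv_X]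
    congr 1
    · rw [Finset.sum_eq_single m]
      · simp
      · intro b _ hb
        rw [Pi.single_eq_of_ne hb.symm, map_zero, mul_zero, zero_smul]
      · intro h
        exact absurd (Finset.mem_univ m) h
    · rw [Finset.smul_sum]
      refine Finset.sum_congr rfl fun l _ => ?_
      rw [smul_smul]

/-- The local lifting lemma. -/
theorem exists_lift (i : σ) (c : σ → P) (hc : c i = 1)
    (hS : ∀ p : P, ∃ a b : MvPolynomial σ k, IsUnit (aeval c b) ∧ p * aeval c b = aeval c a)
    (χ : P →ₐ[k] K) (v : K) (hv : v ≠ 0) (s : σ → K) (hs : ∀ l, s l = v * χ (c l))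
    (j : M →+ K) (hj : Function.Injective j) (hjs : ∀ (p : P) (m : M), j (p • m) = χ p * j m)
    (ν : MvPolynomial σ k → K) (hadd : ∀ G ∈ coneI (k := k) c, ∀ G' ∈ coneI (k := k) c, ν (G + G') = ν G + ν G')
    (hmul : ∀ G ∈ coneI (k := k) c, ∀ H, ν (H * G) = aeval s H * ν G)
    (hval : ∀ n, ∀ G ∈ coneI (k := k) c, G.IsHomogeneous n → ∃ m : M, ν G = v ^ n * j m) :
    ∃ m : σ → M, ∀ G ∈ coneI (k := k) c, ∑ l, aeval s (pderiv l G) * (v * j (m l)) = ν G := by
  have hs' : s = fun l => v * χ (c l) := funext hs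
  have haev : ∀ (n : ℕ) (H : MvPolynomial σ k), H.IsHomogeneous n → aeval s H = v ^ n * χ (aeval c H) := by
    intro n H hH
    rw [hs', aeval_smul _ _ hH, ← AlgHom.comp_apply, MvPolynomial.comp_aeval]
  have hrep : ∀ (h : MvPolynomial σ k) (n : ℕ) (H : MvPolynomial σ k), Rep i h n H →
      aeval s H = v ^ n * χ (aeval c h) := by
    intro h n H hH
    have h1 : χ (c i) = 1 := by rw [hc, map_one]
    rw [hs', hH.2 K v (fun l => χ (c l)) h1, ← AlgHom.comp_apply, MvPolynomial.comp_aeval]
  let : Algebra (MvPolynomial σ k) P := (aeval c : MvPolynomial σ k →ₐ[k] P).toRingHom.toAlgebra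
  have halg : ∀ g : MvPolynomial σ k, algebraMap (MvPolynomial σ k) P g = aeval c g := fun _ => rfl
  have tow : IsScalarTower k (MvPolynomial σ k) P := IsScalarTower.of_algebraMap_eq fun r => by
    rw [halg, MvPolynomial.algebraMap_eq, MvPolynomial.aeval_C]
  let : Module (MvPolynomial σ k) M := Module.compHom M (algebraMap (MvPolynomial σ k) P)
  have tow1 : IsScalarTower (MvPolynomial σ k) P M := ⟨fun a p m => by
    rw [Algebra.smul_def, mul_smul]; rfl⟩
  let : Module k M := Module.compHom M (algebraMap k P)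
  have tow2 : IsScalarTower k (MvPolynomial σ k) M := ⟨fun r b m => by
    rw [Algebra.smul_def, mul_smul]
    change algebraMap (MvPolynomial σ k) P (algebraMap k (MvPolynomial σ k) r) • (b • m) = algebraMap k P r • (b • m)
    rw [← IsScalarTower.algebraMap_apply]⟩
  have tow3 : IsScalarTower k P M := ⟨fun r b m => by
    rw [Algebra.smul_def, mul_smul]; rfl⟩
  -- the functional on `ker (aeval c)`
  have hex : ∀ g : RingHom.ker (algebraMap (MvPolynomial σ k) P), ∃ m : M, ∀ n G, Rep i g.1 n G →
      ν G = v ^ n * j m := by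
    intro g
    obtain ⟨n₀, G₀, h₀⟩ := exists_rep i g.1
    obtain ⟨m, hm⟩ := hval n₀ G₀ (h₀.mem_coneI hc g.2) h₀.1
    refine ⟨m, fun n G h => ?_⟩
    have h1 := h₀.up n
    have h2 := h.up n₀
    rw [add_comm] at h1
    have h3 := h1.unique h2
    have h4 := hmul G₀ (h₀.mem_coneI hc g.2) (X i ^ n)
    have h5 := hmul G (h.mem_coneI hc g.2) (X i ^ n₀)
    rw [h3, h5] at h4
    rw [map_pow, map_pow, aeval_X, hs i, hc, map_one, mul_one, hm, ← mul_assoc, ← pow_add, add_comm n n₀,
      pow_add, mul_assoc] at h4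
    exact mul_left_cancel₀ (pow_ne_zero n₀ hv) h4
  choose νb hνb using hex
  have hexi : ∀ g : RingHom.ker (algebraMap (MvPolynomial σ k) P), ∃ n G, Rep i g.1 n G ∧ ν G = v ^ n * j (νb g) :=
    fun g => by
      obtain ⟨n, G, h⟩ := exists_rep i g.1
      exact ⟨n, G, h, hνb g n G h⟩
  have hinj : ∀ (n : ℕ) (m m' : M), v ^ n * j m = v ^ n * j m' → m = m' := fun n m m' h =>
    hj (mul_left_cancel₀ (pow_ne_zero n hv) h)
  let νL : RingHom.ker (algebraMap (MvPolynomial σ k) P) →ₗ[MvPolynomial σ k] M :=
    { toFun := νb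
      map_add' := by
        intro g g'
        obtain ⟨n, G, h⟩ := exists_rep i g.1
        obtain ⟨n', G', h'⟩ := exists_rep i g'.1
        have h1 := h.up n'
        have h2 := h'.up n
        rw [add_comm] at h1
        have h3 := hνb (g + g') _ _ (h1.add h2)
        rw [hadd _ (h1.mem_coneI hc g.2) _ (h2.mem_coneI hc g'.2), hνb g _ _ h1, hνb g' _ _ h2, ← mul_add,
          ← map_add] at h3
        exact (hinj _ _ _ h3).symm
      map_smul' := by
        intro a g
        obtain ⟨n, G, h⟩ := exists_rep i g.1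
        obtain ⟨e, H, h'⟩ := exists_rep i a
        have h3 := hνb (a • g) _ _ (h'.mul h)
        rw [hmul _ (h.mem_coneI hc g.2), hνb g _ _ h, hrep _ _ _ h'] at h3
        have h4 : v ^ e * χ (aeval c a) * (v ^ n * j (νb g)) = v ^ (e + n) * j (aeval c a • νb g) := by
          rw [hjs, pow_add]; ring
        rw [h4] at h3
        exact (hinj _ _ _ h3).symm }
  obtain ⟨δ, hδ⟩ := DerExt.exists_derivation (R := k) (A := MvPolynomial σ k) (P := P) hS νL
  have hδX : ∀ G : MvPolynomial σ k, δ G = ∑ l, (aeval c (pderiv l G) : P) • δ (X l) := fun G =>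
    sum_pderiv_smul (aeval c) δ (fun a b => map_add δ a b) (fun a b => δ.leibniz a b)
      (fun a => by rw [← MvPolynomial.algebraMap_eq, δ.map_algebraMap]) G
  have hhom : ∀ (n : ℕ) (G : MvPolynomial σ k), G ∈ coneI (k := k) c → G.IsHomogeneous n →
      ∑ l, aeval s (pderiv l G) * (v * j (δ (X l))) = ν G := by
    intro n G hG hn
    have hg0 : aeval c G = 0 := aeval_eq_zero hG
    have h1 := hνb ⟨G, hg0⟩ n G (Rep.of_homogeneous hn)
    have h2 := hδ ⟨G, hg0⟩
    have h3 : j (δ G) = j (νb ⟨G, hg0⟩) := congrArg j h2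
    rw [h1, ← h3, hδX, map_sum, Finset.mul_sum]
    refine Finset.sum_congr rfl fun l _ => ?_
    rw [hjs]
    rcases Nat.eq_zero_or_pos n with h0 | h0
    · subst h0
      have h4 : pderiv l G = 0 := by
        rw [← totalDegree_zero_iff_isHomogeneous, totalDegree_eq_zero_iff_eq_C] at hn
        rw [hn, pderiv_C]
      rw [h4, map_zero, map_zero]
      simp
    · rw [haev _ _ (hn.pderiv (i := l))]
      obtain ⟨m, rfl⟩ : ∃ m, n = m + 1 := ⟨n - 1, by omega⟩
      rw [Nat.add_sub_cancel, pow_succ]
      ring
  refine ⟨fun l => δ (X l), fun G hG => ?_⟩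
  have hνsum : ∀ (S : Finset ℕ), ν (∑ n ∈ S, homogeneousComponent n G) =
      ∑ n ∈ S, ν (homogeneousComponent n G) := by
    classical
    intro S
    induction S using Finset.induction_on with
    | empty =>
      rw [Finset.sum_empty, Finset.sum_empty]
      have := hmul 0 (Ideal.zero_mem _) 0
      simpa using this
    | insert a S ha ih =>
      rw [Finset.sum_insert ha, Finset.sum_insert ha, hadd _ (component_mem hG a) _
        (Ideal.sum_mem _ fun n _ => component_mem hG n), ih]
  have h1 := hνsum (Finset.range (G.totalDegree + 1))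
  rw [sum_homogeneousComponent] at h1
  rw [h1]
  have h2 : ∀ l, aeval s (pderiv l G) * (v * j (δ (X l))) =
      ∑ n ∈ Finset.range (G.totalDegree + 1), aeval s (pderiv l (homogeneousComponent n G)) * (v * j (δ (X l))) := by
    intro l
    rw [← Finset.sum_mul, ← map_sum, ← map_sum, sum_homogeneousComponent]
  simp only [h2]
  rw [Finset.sum_comm]
  exact Finset.sum_congr rfl fun n _ => hhom n _ (component_mem hG n) (homogeneousComponent_isHomogeneous n G)

end Lift

end K756.LocLift
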