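import Groth.Agent.Curves.K756.FamDef
import Groth.Agent.Curves.K756.LocLift
import Groth.Agent.VarietyA.ResMap
import Groth.Agent.UnramA.Locus
import Mathlib.AlgebraicGeometry.Morphisms.Preimmersion

/-!
# Homogeneous coordinates of a morphism to projective space at the points of a scheme

* `exists_isCoord`, `IsCoord.smul`, `IsCoord.spc`, `IsCoord.comp`, `exists_unit`: existence, change by a unit,
  specialization, pull-back, uniqueness of coordinates;
* `mem_van_iff`, `mem_coneI_iff`: the polynomials vanishing on `X ⊆ P^N` in terms of the coordinates at any point;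
* `exists_frac`: for a closed immersion the local rings consist of fractions of polynomials in the coordinates;
* `formallySmooth`: the local rings of a smooth scheme.
-/

set_option autoImplicit false
universe u
open CategoryTheory CategoryTheory.Limits AlgebraicGeometry TopologicalSpace Opposite TensorProduct

noncomputable section

namespace K756.Coord

open K756.FamDef K756.LocLift

attribute [local instance] Curv2.stalkAlgebra

variable (k : Type u) [Field k] {N : ℕ} {Y : Scheme.{u}} [Y.Over (Spec (CommRingCat.of k))]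
  {Z : Scheme.{u}} [Z.Over (Spec (CommRingCat.of k))]
  (g : Y ⟶ CohB1.ProjSpace N k)

theorem fromSpecStalk_comp (y : Y) : Y.fromSpecStalk y ≫ (Y ↘ Spec (CommRingCat.of k)) =
    Spec.map (CommRingCat.ofHom (algebraMap k (Y.presheaf.stalk y))) :=
  (Groth.Agent.VarietyA.ResMap.specMap_stalkMap k Y y).symm

/-- The stalk map, as a homomorphism of `k`-algebras. -/
def stAlg (f : Z ⟶ Y) (hf : f ≫ (Y ↘ Spec (CommRingCat.of k)) = Z ↘ Spec (CommRingCat.of k)) (z : Z) :
    Y.presheaf.stalk (f z) →ₐ[k] Z.presheaf.stalk z :=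
  { (f.stalkMap z).hom with
    commutes' := fun a => by
      have h1 : CommRingCat.ofHom (algebraMap k (Y.presheaf.stalk (f z))) ≫ f.stalkMap z =
          CommRingCat.ofHom (algebraMap k (Z.presheaf.stalk z)) := by
        apply Spec.map_injective
        rw [Spec.map_comp, ← fromSpecStalk_comp, ← fromSpecStalk_comp, ← hf,
          Scheme.SpecMap_stalkMap_fromSpecStalk_assoc]
      exact congrArg (fun φ => φ.hom a) h1 }

@[simp] theorem stAlg_apply (f : Z ⟶ Y) (hf : f ≫ (Y ↘ Spec (CommRingCat.of k)) = Z ↘ Spec (CommRingCat.of k)) (z : Z)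
    (a : Y.presheaf.stalk (f z)) : stAlg k f hf z a = f.stalkMap z a := rfl

theorem exists_isCoord (hg : g ≫ CohB1.ProjSpace.toSpec N k = Y ↘ Spec (CommRingCat.of k)) (y : Y) :
    ∃ b, IsCoord k g y b := by
  obtain ⟨b, i, hi, h⟩ := @K329.Pt.exists_pt k _ N (Y.presheaf.stalk y) (Y.presheaf.stalk y).commRing
    (Curv2.stalkAlgebra k Y y) _ (Y.fromSpecStalk y ≫ g) (by
    rw [Category.assoc, hg]
    exact fromSpecStalk_comp k y)
  exact ⟨b, i, hi, h⟩

variable {g}

theorem IsCoord.pt_eq {y : Y} {b : Fin (N + 1) → Y.presheaf.stalk y} (h : IsCoord k g y b) (i : Fin (N + 1))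
    (hi : IsUnit (b i)) : Y.fromSpecStalk y ≫ g = K329.Pt.pt k b i hi := by
  obtain ⟨j, hj, h⟩ := h
  rw [h]
  exact K329.Pt.pt_indep k b j i hj hi

theorem IsCoord.smul {y : Y} {b : Fin (N + 1) → Y.presheaf.stalk y} (h : IsCoord k g y b)
    (v : Y.presheaf.stalk y) (hv : IsUnit v) : IsCoord k g y (fun l => v * b l) := by
  obtain ⟨j, hj, h⟩ := h
  refine ⟨j, hv.mul hj, ?_⟩
  rw [h]
  exact (K329.Pt.pt_smul k v hv b j hj _ (fun _ => rfl) j _).symm

/-- Normalized coordinates. -/
theorem exists_isCoord_one (hg : g ≫ CohB1.ProjSpace.toSpec N k = Y ↘ Spec (CommRingCat.of k)) (y : Y) :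
    ∃ (b : Fin (N + 1) → Y.presheaf.stalk y) (i : Fin (N + 1)), b i = 1 ∧ IsCoord k g y b := by
  obtain ⟨b, hb⟩ := exists_isCoord k g hg y
  obtain ⟨i, hi, -⟩ := id hb
  obtain ⟨v, hv⟩ := hi.exists_left_inv
  exact ⟨fun l => v * b l, i, hv, IsCoord.smul k hb v (IsUnit.of_mul_eq_one _ hv)⟩

theorem fromSpecStalk_spc {x y : Y} (h : x ⤳ y) :
    Spec.map (CommRingCat.ofHom (spcAlg k Y h : Y.presheaf.stalk y →+* Y.presheaf.stalk x)) ≫ Y.fromSpecStalk y =
      Y.fromSpecStalk x := Scheme.SpecMap_stalkSpecializes_fromSpecStalk h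

theorem IsCoord.spc {x y : Y} (h : x ⤳ y) {b : Fin (N + 1) → Y.presheaf.stalk y} (hb : IsCoord k g y b) :
    IsCoord k g x (fun l => spcAlg k Y h (b l)) := by
  obtain ⟨j, hj, hb⟩ := hb
  refine ⟨j, hj.map _, ?_⟩
  rw [← fromSpecStalk_spc k h, Category.assoc, hb]
  exact K329.Pt.map_pt k (spcAlg k Y h) b j hj

theorem IsCoord.eta [IsIntegral Y] {y : Y} {b : Fin (N + 1) → Y.presheaf.stalk y} (hb : IsCoord k g y b) :
    IsCoord k g (genericPoint Y) (fun l => (spAlg k Y y (b l) : Y.functionField)) :=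
  IsCoord.spc k _ hb

theorem IsCoord.comp (f : Z ⟶ Y) (hf : f ≫ (Y ↘ Spec (CommRingCat.of k)) = Z ↘ Spec (CommRingCat.of k)) (z : Z)
    {b : Fin (N + 1) → Y.presheaf.stalk (f z)} (hb : IsCoord k g (f z) b) :
    IsCoord k (f ≫ g) z (fun l => stAlg k f hf z (b l)) := by
  obtain ⟨j, hj, hb⟩ := hb
  refine ⟨j, hj.map (stAlg k f hf z), ?_⟩
  rw [← Scheme.SpecMap_stalkMap_fromSpecStalk_assoc, hb]
  exact K329.Pt.map_pt k (stAlg k f hf z) b j hj

/-- Coordinates at the generic point are unique up to a scalar. -/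
theorem exists_smul_eta [IsIntegral Y] {b b' : Fin (N + 1) → Y.functionField}
    (hb : IsCoord k g (genericPoint Y) b) (hb' : IsCoord k g (genericPoint Y) b') :
    ∃ v : Y.functionField, v ≠ 0 ∧ ∀ l, b' l = v * b l := by
  obtain ⟨i, hi, h⟩ := hb
  obtain ⟨j, hj, h'⟩ := hb'
  exact K329.Pt.exists_smul_of_pt_eq k (F := Y.functionField) hi hj (h.symm.trans h')

/-- Coordinates at a point of an integral scheme and at its generic point. -/
theorem exists_smul [IsIntegral Y] {y : Y} {b : Fin (N + 1) → Y.presheaf.stalk y} (hb : IsCoord k g y b)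
    {s : Fin (N + 1) → Y.functionField} (hs : IsCoord k g (genericPoint Y) s) :
    ∃ v : Y.functionField, v ≠ 0 ∧ ∀ l, s l = v * algebraMap (Y.presheaf.stalk y) Y.functionField (b l) :=
  exists_smul_eta k (IsCoord.eta k hb) hs

/-- Coordinates at a point of an integral scheme are unique up to a unit. -/
theorem exists_unit [IsIntegral Y] {y : Y} {b b' : Fin (N + 1) → Y.presheaf.stalk y} (hb : IsCoord k g y b)
    (hb' : IsCoord k g y b') : ∃ v : Y.presheaf.stalk y, IsUnit v ∧ ∀ l, b' l = v * b l := by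
  obtain ⟨v, hv, h⟩ := exists_smul_eta k (IsCoord.eta k hb) (IsCoord.eta k hb')
  obtain ⟨i, hi, -⟩ := id hb
  obtain ⟨j, hj, -⟩ := id hb'
  have hinj : Function.Injective (algebraMap (Y.presheaf.stalk y) Y.functionField) :=
    IsFractionRing.injective (Y.presheaf.stalk y) Y.functionField
  obtain ⟨bi, hbi⟩ := hi.exists_left_inv
  have h1 : ∀ l, b' l = (bi * b' i) * b l := by
    intro l
    apply hinj
    have e1 := h l
    have e2 := h i
    simp only [spAlg_apply] at e1 e2
    have e3 := congrArg (algebraMap (Y.presheaf.stalk y) Y.functionField) hbi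
    rw [map_mul, map_one] at e3
    rw [map_mul, map_mul, e1, e2]
    calc v * algebraMap _ Y.functionField (b l) = v * (algebraMap _ Y.functionField bi *
          algebraMap _ Y.functionField (b i)) * algebraMap _ Y.functionField (b l) := by rw [e3, mul_one]
      _ = _ := by ring
  refine ⟨bi * b' i, ?_, h1⟩
  have h2 := hj
  rw [h1 j] at h2
  exact isUnit_of_mul_isUnit_left h2

section Van

variable {X : Scheme.{u}} [X.Over (Spec (CommRingCat.of k))] [IsIntegral X] {ι : X ⟶ CohB1.ProjSpace N k}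

theorem coneI_eq_eta {x : X} {b : Fin (N + 1) → X.presheaf.stalk x} (hb : IsCoord k ι x b)
    {s : Fin (N + 1) → X.functionField} (hs : IsCoord k ι (genericPoint X) s) :
    coneI (k := k) b = coneI (k := k) s := by
  obtain ⟨v, hv, h⟩ := exists_smul k hb hs
  exact (coneI_eq (spAlg k X x) (IsFractionRing.injective (X.presheaf.stalk x) X.functionField) b v
    (isUnit_iff_ne_zero.mpr hv) s h).symm

/-- The cone ideal does not depend on the point. -/
theorem coneI_eq_coneI {x y : X} {b : Fin (N + 1) → X.presheaf.stalk x} (hb : IsCoord k ι x b)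
    {c : Fin (N + 1) → X.presheaf.stalk y} (hc : IsCoord k ι y c) :
    coneI (k := k) b = coneI (k := k) c :=
  (coneI_eq_eta k hb (IsCoord.eta k hb)).trans ((coneI_eq_eta k hc (IsCoord.eta k hb)).symm)

/-- Homogeneous polynomials vanishing on `X`. -/
theorem mem_van_iff {x : X} {b : Fin (N + 1) → X.presheaf.stalk x} (hb : IsCoord k ι x b)
    (G : MvPolynomial (Fin (N + 1)) k) : G ∈ Van k ι ↔ (∃ d, G.IsHomogeneous d) ∧ G ∈ coneI (k := k) b := by
  constructor
  · rintro ⟨⟨d, hd⟩, h⟩
    exact ⟨⟨d, hd⟩, (mem_coneI_of_homogeneous b hd).mpr (h x b hb)⟩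
  · rintro ⟨⟨d, hd⟩, h⟩
    refine ⟨⟨d, hd⟩, fun y c hc => ?_⟩
    rw [coneI_eq_coneI k hb hc] at h
    exact (mem_coneI_of_homogeneous c hd).mp h

/-- An additive property of the elements of the cone ideal can be checked on homogeneous polynomials. -/
theorem coneI_induction {x : X} {b : Fin (N + 1) → X.presheaf.stalk x} (hb : IsCoord k ι x b)
    (p : MvPolynomial (Fin (N + 1)) k → Prop) (h0 : p 0) (hadd : ∀ G H, p G → p H → p (G + H))
    (h : ∀ G ∈ Van k ι, p G) (G : MvPolynomial (Fin (N + 1)) k) (hG : G ∈ coneI (k := k) b) : p G := by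
  rw [← MvPolynomial.sum_homogeneousComponent G]
  refine Finset.sum_induction _ p hadd h0 fun n _ => h _ ?_
  rw [mem_van_iff k hb]
  exact ⟨⟨n, MvPolynomial.homogeneousComponent_isHomogeneous n G⟩, component_mem hG n⟩

end Van

/-- For an immersion the local rings consist of fractions of polynomials in the coordinates. -/
theorem exists_frac [IsPreimmersion g] {y : Y} {b : Fin (N + 1) → Y.presheaf.stalk y} {i : Fin (N + 1)}
    (hi : b i = 1) (hb : IsCoord k g y b) (p : Y.presheaf.stalk y) :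
    ∃ a c : MvPolynomial (Fin (N + 1)) k, IsUnit (MvPolynomial.aeval b c) ∧
      p * MvPolynomial.aeval b c = MvPolynomial.aeval b a := by
  have hiu : IsUnit (b i) := by rw [hi]; exact isUnit_one
  have h1 := IsCoord.pt_eq k hb i hiu
  have h2 : IsPreimmersion (Y.fromSpecStalk y ≫ g) := inferInstance
  rw [h1, K329.Pt.pt] at h2
  have h3 := IsPreimmersion.of_comp (Spec.map (CommRingCat.ofHom (Groth.Agent.VarietyB.ProjHom.awayLift
    (CohB1.polyGrading N k) (K329.Pt.ev k b) (MvPolynomial.X i) (K329.Pt.isUnit_ev k hiu))))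
    (Groth.Agent.Sga7.H132.ProjPts.chart N k i)
  rw [IsPreimmersion.SpecMap_iff] at h3
  obtain ⟨x, r, c, hc, hr, e⟩ := RingHom.surjectiveOnStalks_iff_forall_ideal.mp h3.2
    (IsLocalRing.maximalIdeal (Y.presheaf.stalk y)) (IsLocalRing.maximalIdeal.isMaximal _).ne_top p
  have hcu : IsUnit c := IsLocalRing.notMem_maximalIdeal.mp hc
  have hru := IsLocalRing.notMem_maximalIdeal.mp hr
  have e' := hcu.mul_left_cancel ((mul_assoc _ _ _).symm.trans e)
  have key : ∀ x, ∃ a : MvPolynomial (Fin (N + 1)) k, Groth.Agent.VarietyB.ProjHom.awayLift (CohB1.polyGrading N k) (K329.Pt.ev k b)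
      (MvPolynomial.X i) (K329.Pt.isUnit_ev k hiu) x = MvPolynomial.aeval b a := by
    intro x
    obtain ⟨n, a, ha, rfl⟩ := HomogeneousLocalization.Away.mk_surjective (CohB1.polyGrading N k)
      (Groth.Agent.Sga5.ProjChart.X_mem N k i) x
    have h4 := Groth.Agent.VarietyB.ProjHom.awayLift_mk (CohB1.polyGrading N k) (K329.Pt.ev k b)
      (K329.Pt.isUnit_ev k hiu) (Groth.Agent.Sga5.ProjChart.X_mem N k i) n a ha
    rw [K329.Pt.ev_X, hi, one_pow, mul_one] at h4
    exact ⟨a, h4⟩
  obtain ⟨a, ha⟩ := key x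
  obtain ⟨c', hc'⟩ := key r
  refine ⟨a, c', ?_, ?_⟩
  · rw [← hc']
    exact hru
  · rw [← hc', ← ha, mul_comm]
    exact e'

/-- The local rings of a smooth scheme over a field are formally smooth. -/
theorem formallySmooth [LocallyOfFinitePresentation (Y ↘ Spec (CommRingCat.of k))] (U : Y.Opens)
    (hU : Smooth (U.ι ≫ (Y ↘ Spec (CommRingCat.of k)))) (y : Y) (hy : y ∈ U) :
    Algebra.FormallySmooth k (Y.presheaf.stalk y) := by
  have h1 : ((Y ↘ Spec (CommRingCat.of k)).stalkMap y).hom.FormallySmooth :=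
    (Groth.Agent.UnramA.Locus.smooth_nhd_iff _ y).mp ⟨U, hy, hU⟩
  have h2 : (StructureSheaf.toStalk k ((Y ↘ Spec (CommRingCat.of k)) y)).hom.FormallySmooth := by
    have h3 : Algebra.FormallyEtale k ((Spec.structureSheaf k).presheaf.stalk ((Y ↘ Spec (CommRingCat.of k)) y)) :=
      Algebra.FormallyEtale.of_isLocalization
        (PrimeSpectrum.asIdeal ((Y ↘ Spec (CommRingCat.of k)) y)).primeCompl
    have h4 : Algebra.FormallySmooth k
      ((Spec.structureSheaf k).presheaf.stalk ((Y ↘ Spec (CommRingCat.of k)) y)) := inferInstance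
    exact h4
  have h5 := h2.comp h1
  have h6 : (CommRingCat.ofHom (algebraMap k (Y.presheaf.stalk y))) =
      StructureSheaf.toStalk k ((Y ↘ Spec (CommRingCat.of k)) y) ≫ (Y ↘ Spec (CommRingCat.of k)).stalkMap y := by
    apply Spec.map_injective
    rw [← fromSpecStalk_comp, ← Scheme.SpecMap_stalkMap_fromSpecStalk, Spec.fromSpecStalk_eq', Spec.map_comp]
    rfl
  have h7 : (CommRingCat.ofHom (algebraMap k (Y.presheaf.stalk y))).hom.FormallySmooth := by
    rw [h6]
    exact h5
  exact h7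

end K756.Coord

end
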