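import Mathlib.RingTheory.Smooth.Basic
import Mathlib.RingTheory.Smooth.Kaehler
import Mathlib.RingTheory.Localization.Basic

/-!
# Extending functionals on the conormal module to derivations

`exists_derivation`: `A` and `P` formally smooth over `R`, every element of `P` a fraction of elements of `A`,
`ν : ker (A → P) → M` an `A`-linear map into a `P`-module: `ν` is the restriction of an `R`-derivation `A → M`.
-/

set_option autoImplicit false

namespace K756.DerExt

open TensorProduct KaehlerDifferential

section Surj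

variable {R A P M : Type*} [CommRing R] [CommRing A] [CommRing P] [AddCommGroup M]
  [Algebra R A] [Algebra A P] [Algebra R P] [IsScalarTower R A P] [Module P M] [Module A M]
  [IsScalarTower A P M] [Module R M] [IsScalarTower R A M]

theorem exists_derivation_of_surjective [Algebra.FormallySmooth R A] [Algebra.FormallySmooth R P]
    (hs : Function.Surjective (algebraMap A P)) (ν : RingHom.ker (algebraMap A P) →ₗ[A] M) :
    ∃ δ : Derivation R A M, ∀ x : RingHom.ker (algebraMap A P), δ x.1 = ν x := by
  obtain ⟨l, hl⟩ := (Algebra.FormallySmooth.iff_split_injection (R := R) hs).1 inferInstance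
  have hν : ∀ x y : RingHom.ker (algebraMap A P), ν (x * y) = 0 := fun x y => by
    have h1 : x * y = (x : A) • y := rfl
    rw [h1, map_smul, ← IsScalarTower.algebraMap_smul P (x : A) (ν y), RingHom.mem_ker.1 x.2, zero_smul]
  let T : P ⊗[A] Ω[A⁄R] →ₗ[A] M := (Ideal.Cotangent.lift ν hν) ∘ₗ l
  refine ⟨(T ∘ₗ (TensorProduct.mk A P Ω[A⁄R] 1)).compDer (KaehlerDifferential.D R A), fun x => ?_⟩
  have h1 : l (kerCotangentToTensor R A P (Ideal.toCotangent _ x)) = Ideal.toCotangent _ x :=
    LinearMap.congr_fun hl _
  rw [kerCotangentToTensor_toCotangent] at h1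
  change Ideal.Cotangent.lift ν hν (l (1 ⊗ₜ[A] KaehlerDifferential.D R A x.1)) = ν x
  rw [h1, Ideal.Cotangent.lift_toCotangent]

end Surj

section Loc

variable {R A P M : Type*} [CommRing R] [CommRing A] [CommRing P] [AddCommGroup M]
  [Algebra R A] [Algebra A P] [Algebra R P] [IsScalarTower R A P] [Module P M] [Module A M]
  [IsScalarTower A P M] [Module R M] [IsScalarTower R A M]

theorem exists_derivation [Algebra.FormallySmooth R A] [Algebra.FormallySmooth R P]
    (hS : ∀ p : P, ∃ a b : A, IsUnit (algebraMap A P b) ∧ p * algebraMap A P b = algebraMap A P a)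
    (ν : RingHom.ker (algebraMap A P) →ₗ[A] M) :
    ∃ δ : Derivation R A M, ∀ x : RingHom.ker (algebraMap A P), δ x.1 = ν x := by
  let S : Submonoid A := (IsUnit.submonoid P).comap (algebraMap A P)
  let A' := Localization S
  have hSu : ∀ t : S, IsUnit (algebraMap A P t) := fun t => t.2
  let φ : A' →+* P := IsLocalization.lift hSu
  let : Algebra A' P := φ.toAlgebra
  have tow1 : IsScalarTower A A' P := IsScalarTower.of_algebraMap_eq fun a =>
    (IsLocalization.lift_eq hSu a).symm
  have hφ : ∀ a : A, algebraMap A' P (algebraMap A A' a) = algebraMap A P a := fun a =>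
    IsLocalization.lift_eq hSu a
  have tow2 : IsScalarTower R A' P := IsScalarTower.of_algebraMap_eq fun r => by
    rw [IsScalarTower.algebraMap_apply R A A', hφ, ← IsScalarTower.algebraMap_apply R A P]
  let : Module A' M := Module.compHom M (algebraMap A' P)
  have tow3 : IsScalarTower A' P M := ⟨fun a p m => by
    rw [Algebra.smul_def, mul_smul]; rfl⟩
  have tow4 : IsScalarTower A A' M := ⟨fun a b m => by
    change algebraMap A' P (a • b) • m = a • (algebraMap A' P b • m)
    rw [← IsScalarTower.algebraMap_smul P a (algebraMap A' P b • m), Algebra.smul_def, map_mul, hφ, mul_smul]⟩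
  have tow5 : IsScalarTower R A' M := ⟨fun r b m => by
    rw [← IsScalarTower.algebraMap_smul A r b, smul_assoc, IsScalarTower.algebraMap_smul]⟩
  have hsurj : Function.Surjective (algebraMap A' P) := by
    intro p
    obtain ⟨a, b, hb, h⟩ := hS p
    refine ⟨IsLocalization.mk' A' a (⟨b, hb⟩ : S), ?_⟩
    apply hb.mul_right_cancel
    rw [h, ← hφ b, ← map_mul, IsLocalization.mk'_spec (S := A') a (⟨b, hb⟩ : S), hφ]
  have : Algebra.FormallySmooth A A' := Algebra.FormallySmooth.of_isLocalization S
  have : Algebra.FormallySmooth R A' := Algebra.FormallySmooth.comp R A A'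
  -- the extension of `ν`
  have hmem : ∀ (w : A') (_ : algebraMap A' P w = 0) (a : A) (t : S), IsLocalization.mk' A' a t = w →
      algebraMap A P a = 0 := by
    intro w hw a t h
    have h1 := IsLocalization.mk'_spec A' a t
    rw [h] at h1
    rw [← hφ a, ← h1, map_mul, hw, zero_mul]
  have hex : ∀ w : RingHom.ker (algebraMap A' P), ∃ m : M, ∀ (a : A) (t : S) (ha : algebraMap A P a = 0),
      IsLocalization.mk' A' a t = w.1 → algebraMap A P t • m = ν ⟨a, ha⟩ := by
    intro w
    obtain ⟨a₀, t₀, h₀⟩ := IsLocalization.exists_mk'_eq S w.1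
    have ha₀ := hmem w.1 w.2 a₀ t₀ h₀
    refine ⟨((hSu t₀).unit⁻¹ : Pˣ).1 • ν ⟨a₀, ha₀⟩, fun a t ha h => ?_⟩
    rw [← h₀, IsLocalization.mk'_eq_iff_eq, IsLocalization.eq_iff_exists S A'] at h
    obtain ⟨c, hc⟩ := h
    have e1 : ν ⟨c * (t₀ * a), by simp [ha, RingHom.mem_ker]⟩ = ν ⟨c * (t * a₀), by simp [ha₀, RingHom.mem_ker]⟩ := by
      congr 1
      exact Subtype.ext hc
    have e2 : ∀ (u v : A) (hv : algebraMap A P v = 0) (h : u * v ∈ RingHom.ker (algebraMap A P)),
        ν ⟨u * v, h⟩ = algebraMap A P u • ν ⟨v, hv⟩ := fun u v hv h => by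
      rw [IsScalarTower.algebraMap_smul, ← map_smul]
      rfl
    have hta : algebraMap A P (t₀ * a) = 0 := by rw [map_mul, ha, mul_zero]
    have hta' : algebraMap A P (t * a₀) = 0 := by rw [map_mul, ha₀, mul_zero]
    rw [e2 _ _ hta, e2 _ _ hta', e2 _ _ ha, e2 _ _ ha₀] at e1
    have e3 : algebraMap A P t₀ • ν ⟨a, ha⟩ = algebraMap A P t • ν ⟨a₀, ha₀⟩ := by
      have h2 := congrArg (fun m => ((hSu c).unit⁻¹ : Pˣ).1 • m) e1
      simp only [smul_smul, ← mul_assoc] at h2
      rw [IsUnit.val_inv_mul, one_mul, one_mul] at h2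
      exact h2
    rw [smul_comm, ← e3, smul_smul, IsUnit.val_inv_mul, one_smul]
  choose ν' hν' using hex
  have key : ∀ (w : RingHom.ker (algebraMap A' P)), ∃ (a : A) (t : S) (ha : algebraMap A P a = 0),
      IsLocalization.mk' A' a t = w.1 ∧ algebraMap A P t • ν' w = ν ⟨a, ha⟩ := fun w => by
    obtain ⟨a, t, h⟩ := IsLocalization.exists_mk'_eq S w.1
    have ha := hmem w.1 w.2 a t h
    exact ⟨a, t, ha, h, hν' w a t ha h⟩
  have cancel : ∀ (t : S) (m m' : M), algebraMap A P t • m = algebraMap A P t • m' → m = m' := by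
    intro t m m' h
    have h2 := congrArg (fun m => ((hSu t).unit⁻¹ : Pˣ).1 • m) h
    simpa only [smul_smul, IsUnit.val_inv_mul, one_smul] using h2
  let νL : RingHom.ker (algebraMap A' P) →ₗ[A'] M :=
    { toFun := ν'
      map_add' := by
        intro w₁ w₂
        obtain ⟨a₁, t₁, ha₁, h₁, e₁⟩ := key w₁
        obtain ⟨a₂, t₂, ha₂, h₂, e₂⟩ := key w₂
        have ha : algebraMap A P (a₁ * t₂ + a₂ * t₁) = 0 := by
          rw [map_add, map_mul, map_mul, ha₁, ha₂, zero_mul, zero_mul, add_zero]
        have e := hν' (w₁ + w₂) (a₁ * t₂ + a₂ * t₁) (t₁ * t₂) ha (by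
          rw [IsLocalization.mk'_add, h₁, h₂]; rfl)
        apply cancel (t₁ * t₂)
        rw [e, smul_add]
        have e3 : (⟨a₁ * t₂ + a₂ * t₁, ha⟩ : RingHom.ker (algebraMap A P)) =
            (t₂ : A) • ⟨a₁, ha₁⟩ + (t₁ : A) • ⟨a₂, ha₂⟩ := Subtype.ext (by
          simp [mul_comm])
        rw [e3, map_add, map_smul, map_smul, ← e₁, ← e₂, ← IsScalarTower.algebraMap_smul P (t₂ : A),
          ← IsScalarTower.algebraMap_smul P (t₁ : A), smul_smul, smul_smul, Submonoid.coe_mul, map_mul,
          mul_comm (algebraMap A P t₂)]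
      map_smul' := by
        intro r w
        obtain ⟨a, t, ha, h, e⟩ := key w
        obtain ⟨b, u, hb⟩ := IsLocalization.exists_mk'_eq S r
        have ha' : algebraMap A P (b * a) = 0 := by rw [map_mul, ha, mul_zero]
        have e' := hν' (r • w) (b * a) (u * t) ha' (by
          rw [IsLocalization.mk'_mul, hb, h]; rfl)
        apply cancel (u * t)
        rw [e', RingHom.id_apply]
        have e3 : (⟨b * a, ha'⟩ : RingHom.ker (algebraMap A P)) = b • ⟨a, ha⟩ := rfl
        have e4 : r • ν' w = algebraMap A' P r • ν' w := rfl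
        rw [e3, map_smul, ← e, e4, ← IsScalarTower.algebraMap_smul P b, smul_smul, smul_smul,
          Submonoid.coe_mul, map_mul, ← hφ b, ← IsLocalization.mk'_spec A' b u, hb, map_mul, hφ]
        congr 1
        ring }
  obtain ⟨δ', hδ'⟩ := exists_derivation_of_surjective (R := R) hsurj νL
  refine ⟨{ toFun := fun a => δ' (algebraMap A A' a)
            map_add' := fun a b => by rw [map_add, map_add]
            map_smul' := fun r a => by
              change δ' (algebraMap A A' (r • a)) = r • δ' (algebraMap A A' a)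
              rw [Algebra.smul_def, map_mul, ← IsScalarTower.algebraMap_apply, ← Algebra.smul_def,
                Derivation.map_smul]
            map_one_eq_zero' := by
              change δ' (algebraMap A A' 1) = 0
              rw [map_one, Derivation.map_one_eq_zero]
            leibniz' := fun a b => by
              change δ' (algebraMap A A' (a * b)) = _
              rw [map_mul, Derivation.leibniz, IsScalarTower.algebraMap_smul, IsScalarTower.algebraMap_smul]
              rfl }, fun x => ?_⟩
  have hx : algebraMap A' P (algebraMap A A' x.1) = 0 := by rw [hφ]; exact x.2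
  have h1 := hδ' ⟨algebraMap A A' x.1, hx⟩
  change δ' (algebraMap A A' x.1) = ν x
  rw [h1]
  have h2 := hν' ⟨algebraMap A A' x.1, hx⟩ x.1 1 x.2 (IsLocalization.mk'_one A' x.1)
  rw [Submonoid.coe_one, map_one, one_smul] at h2
  exact h2

end Loc

end K756.DerExt
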