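import Groth.Agent.Curves.K756.TupLoc
import Groth.Agent.VarietyA.CurveFin
import Groth.Agent.VarietyA.RegPoint

/-!
# Tuples with parameters on a curve satisfying the equations of `X`

`exists_tuple`: if the space of sections of `Es s B` has dimension at least `2` more than the space of sections of its
image under the gradient map, there is a one-parameter family of tuples satisfying the equations of `X`.
-/

set_option autoImplicit false
set_option linter.unusedSectionVars false
universe u
open CategoryTheory CategoryTheory.Limits AlgebraicGeometry TopologicalSpace Opposite TensorProduct Module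

noncomputable section

namespace K756.TupMain

open K756.FamDef K756.LocLift K756.Coord K756.EDef K756.TupFun K756.ParKrull K756.TupLoc K756.LatSh K756.LatSeq
  K756.LatNum K756.LatFree
open Groth.Agent.Sga67.Sec Groth.Agent.Sga67.LocBasis

attribute [local instance] Curv2.stalkAlgebra

section const

variable (k : Type u) [Field k] [IsAlgClosed k] {C : Scheme.{u}} [C.Over (Spec (CommRingCat.of k))] [IsIntegral C]

/-- Rational functions regular everywhere on a proper variety are constant. -/
theorem exists_const [IsProper (C ↘ Spec (CommRingCat.of k))] (a : C.functionField)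
    (ha : ∀ z : C, ∃ u : C.presheaf.stalk z, algebraMap (C.presheaf.stalk z) C.functionField u = a) :
    ∃ r : k, algebraMap k C.functionField r = a := by
  let P : ∀ z : C, Submodule (C.presheaf.stalk z) C.functionField := fun z =>
    Submodule.span (C.presheaf.stalk z) (Set.range fun _ : Fin 1 => (1 : C.functionField))
  have hP : ∀ y ∈ (⊤ : C.Opens), P y = Submodule.span (C.presheaf.stalk y)
      (Set.range fun _ : Fin 1 => (1 : C.functionField)) := fun _ _ => rfl
  have hLI : LinearIndependent C.functionField (fun _ : Fin 1 => (1 : C.functionField)) := by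
    rw [Fintype.linearIndependent_iff]
    intro g hg i
    rw [Fin.sum_univ_one, smul_eq_mul, mul_one] at hg
    rwa [Subsingleton.elim i 0]
  have hb := isLocBasis_sec (P := P) (U := ⊤) _ hLI hP
  have haP : ∀ x ∈ (⊤ : C.Opens), a ∈ P x := by
    intro x _
    obtain ⟨u, hu⟩ := ha x
    have h1 : a = u • (1 : C.functionField) := by rw [Algebra.smul_def, mul_one, hu]
    rw [h1]
    exact (P x).smul_mem u (Submodule.subset_span ⟨0, rfl⟩)
  obtain ⟨g, hg⟩ := (hb ⊤ le_rfl).2 (mk ⊤ a haP : Γ(mod P, ⊤))
  have h1 : (mk ⊤ a haP : Γ(mod P, ⊤)) = g 0 • (mk ⊤ (1 : C.functionField) (fun x _ => Submodule.subset_span ⟨0, rfl⟩) :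
      Γ(mod P, ⊤)) := by
    rw [← hg, comb_apply, Fin.sum_univ_one, res_self]
    rfl
  have h2 := congrArg (fun t : Γ(mod P, ⊤) => t.1 ⟨genericPoint C, trivial⟩) h1
  have h3 : a = (C.presheaf.germ ⊤ (genericPoint C) trivial (g 0) : C.functionField) := by
    refine h2.trans ?_
    change (g 0 • (mk ⊤ (1 : C.functionField) _ : Γ(mod P, ⊤))).1 ⟨genericPoint C, trivial⟩ = _
    rw [smul_val (U := ⊤) trivial, LatSh.mk_apply, smul_eq_mul, mul_one]
  obtain ⟨t, ht⟩ := Groth.Agent.CurvesB.HZero.exists_const k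
    (Groth.Agent.VarietyA.CurveFin.finrank_h0_structure k C) (g 0)
  refine ⟨t, ?_⟩
  rw [h3, ← ht]
  rfl

end const

section indep

variable {k : Type u} [Field k] {V : Type u} [AddCommGroup V] [Module k V] [Module.Finite k V]

/-- Vectors independent modulo a given nonzero vector. -/
theorem exists_compl (v : V) (hv : v ≠ 0) : ∃ (M : ℕ) (e : Fin M → V), M + 1 = finrank k V ∧
    ∀ μ : Fin M → k, (∑ a, μ a • e a) ∈ Submodule.span k {v} → μ = 0 := by
  let Q := V ⧸ Submodule.span k {v}
  let b := Module.finBasis k Q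
  choose e he using fun a => Submodule.Quotient.mk_surjective (Submodule.span k {v}) (b a)
  refine ⟨finrank k Q, e, ?_, fun μ hμ => ?_⟩
  · rw [← finrank_span_singleton (K := k) hv]
    exact Submodule.finrank_quotient_add_finrank _
  · have h1 : ∑ a, μ a • b a = 0 := by
      have h2 := (Submodule.Quotient.mk_eq_zero _).mpr hμ
      rw [← h2, ← Submodule.mkQ_apply, map_sum]
      exact Finset.sum_congr rfl fun a _ => by rw [map_smul, Submodule.mkQ_apply, he]
    funext a
    exact Fintype.linearIndependent_iff.mp b.linearIndependent μ h1 a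

end indep

section main

variable (k : Type u) [Field k] [IsAlgClosed k] {X : Scheme.{u}} [X.Over (Spec (CommRingCat.of k))] [IsIntegral X]
  {C : Scheme.{u}} [C.Over (Spec (CommRingCat.of k))] [IsIntegral C] {N : ℕ}
  {ι : X ⟶ CohB1.ProjSpace N k} [IsPreimmersion ι]

/-- The vector `s` belongs to all the lattices. -/
theorem mem_sects_self (s : Fin (N + 1) → C.functionField) (B : Finset C) : s ∈ sects k (Es s B) := by
  intro z
  by_cases hz : z ∈ B
  · rw [Es_of_mem s hz]
    exact Submodule.mem_sup_left (Submodule.mem_span_singleton_self s)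
  · rw [Es_of_notMem s hz]
    exact fun l => Submodule.subset_span ⟨l, rfl⟩

/-- An element of all the lattices proportional to `s` is a constant multiple of `s`. -/
theorem exists_smul_of_proportional [IsProper (C ↘ Spec (CommRingCat.of k))]
    (s : Fin (N + 1) → C.functionField) (B : Finset C)
    (hcoord : ∀ z : C, ∃ (c : C.functionField) (b : Fin (N + 1) → C.presheaf.stalk z) (i : Fin (N + 1)), c ≠ 0 ∧
      IsUnit (b i) ∧ ∀ l, s l = c * algebraMap (C.presheaf.stalk z) C.functionField (b l))
    (hB : ∀ z ∈ B, ∀ a : C.presheaf.stalk z, ∃ r : k,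
      a - algebraMap k (C.presheaf.stalk z) r ∈ IsLocalRing.maximalIdeal (C.presheaf.stalk z))
    (v : Fin (N + 1) → C.functionField) (hv : v ∈ sects k (Es s B)) (a : C.functionField)
    (ha : ∀ l, v l = a * s l) : ∃ r : k, v = r • s := by
  obtain ⟨r, hr⟩ := exists_const k a (fun z => by
    obtain ⟨c, b, i, hc, hi, hs⟩ := hcoord z
    obtain ⟨u, hu, -⟩ := exists_loc_of_mem_Es k B c b hs i hi (hB z) v (hv z)
    obtain ⟨d, hd⟩ := hi.exists_left_inv
    refine ⟨d * u i, ?_⟩
    have h1 := hu i
    rw [ha i, hs i] at h1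
    have h2 := congrArg (algebraMap (C.presheaf.stalk z) C.functionField) hd
    rw [map_mul, map_one] at h2
    have h3 : a * algebraMap _ C.functionField (b i) = algebraMap _ C.functionField (u i) := by
      apply mul_left_cancel₀ hc
      rw [← h1]
      ring
    rw [map_mul, ← h3, mul_comm a, ← mul_assoc, h2, one_mul])
  refine ⟨r, funext fun l => ?_⟩
  rw [ha l, Pi.smul_apply, Algebra.smul_def, hr]

theorem exists_tuple (hι : ι ≫ CohB1.ProjSpace.toSpec N k = X ↘ Spec (CommRingCat.of k))
    [LocallyOfFiniteType (X ↘ Spec (CommRingCat.of k))]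
    (hC : Curve.IsSmoothProperCurve k C (C ↘ Spec (CommRingCat.of k)))
    (f : C ⟶ X) (hf : f ≫ (X ↘ Spec (CommRingCat.of k)) = C ↘ Spec (CommRingCat.of k))
    (U : X.Opens) (hU : Set.range f.base ⊆ (U : Set X)) (hUs : Smooth (U.ι ≫ (X ↘ Spec (CommRingCat.of k))))
    (s : Fin (N + 1) → C.functionField) (i₀ : Fin (N + 1)) (hs : IsCoord k (f ≫ ι) (genericPoint C) s)
    (hs₀ : s i₀ = 1) (B : Finset C) (hB : ∀ b ∈ B, IsClosed ({b} : Set C))
    (J : Ideal (MvPolynomial (Fin (N + 1)) k))
    (hJ : ∀ (x : X) (b : Fin (N + 1) → X.presheaf.stalk x), IsCoord k ι x b → J = coneI (k := k) b)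
    (hfin : Module.Finite k (sects k (Es s B))) (hfin' : Module.Finite k (sects k (mapF (Es s B) (grad k J s))))
    (hlt : finrank k (sects k (mapF (Es s B) (grad k J s))) + 1 < finrank k (sects k (Es s B))) :
    ∃ (A : Type u) (_ : CommRing A) (_ : IsDomain A) (_ : Algebra k A) (_ : Algebra.FiniteType k A)
      (ε : A →ₐ[k] k) (S : Fin (N + 1) → C.functionField ⊗[k] A), ringKrullDim A = 1 ∧
      (∀ z : C, ∃ (c : C.functionField) (b : Fin (N + 1) → C.presheaf.stalk z)
        (w : Fin (N + 1) → C.presheaf.stalk z ⊗[k] A), c ≠ 0 ∧ IsCoord k (f ≫ ι) z b ∧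
        (∀ l, evA k (C.presheaf.stalk z) ε (w l) = b l) ∧ (∀ l, S l = (c ⊗ₜ[k] (1 : A)) * extA k A C z (w l)) ∧
        (z ∈ B → ∃ a : A, ∀ l, w l - b l ⊗ₜ[k] a ∈
          (IsLocalRing.maximalIdeal (C.presheaf.stalk z)).map
            (Algebra.TensorProduct.includeLeft : C.presheaf.stalk z →ₐ[k] C.presheaf.stalk z ⊗[k] A))) ∧
      (∀ G ∈ Van k ι, MvPolynomial.aeval S G = 0) ∧
      ∃ l m, S l * (s m ⊗ₜ[k] (1 : A)) ≠ S m * (s l ⊗ₜ[k] (1 : A)) := by
  obtain ⟨hprop, hsm, -, hdim⟩ := id hC
  have hlft : LocallyOfFiniteType (C ↘ Spec (CommRingCat.of k)) := inferInstance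
  have hres : ∀ z ∈ B, ∀ a : C.presheaf.stalk z, ∃ r : k,
      a - algebraMap k (C.presheaf.stalk z) r ∈ IsLocalRing.maximalIdeal (C.presheaf.stalk z) := fun z hz a =>
    Groth.Agent.VarietyA.RegPoint.exists_sub_mem_maximalIdeal k C (hB z hz) a
  have hs_ne : s ≠ 0 := fun h => by
    rw [h] at hs₀
    exact zero_ne_one hs₀
  -- coordinates at the points
  have hcoord : ∀ z : C, ∃ (x : Fin (N + 1) → X.presheaf.stalk (f z)) (i : Fin (N + 1)) (c : C.functionField),
      x i = 1 ∧ IsCoord k ι (f z) x ∧ c ≠ 0 ∧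
      ∀ l, s l = c * algebraMap (C.presheaf.stalk z) C.functionField (stAlg k f hf z (x l)) := by
    intro z
    obtain ⟨x, i, hxi, hx⟩ := exists_isCoord_one k hι (f z)
    obtain ⟨c, hc, h⟩ := exists_smul k (IsCoord.comp k f hf z hx) hs
    exact ⟨x, i, c, hxi, hx, hc, h⟩
  have hunit : ∀ (z : C) (x : Fin (N + 1) → X.presheaf.stalk (f z)) (i : Fin (N + 1)), x i = 1 →
      IsUnit (stAlg k f hf z (x i)) := fun z x i h => by
    rw [h, map_one]
    exact isUnit_one
  have hcoord' : ∀ z : C, ∃ (c : C.functionField) (b : Fin (N + 1) → C.presheaf.stalk z) (i : Fin (N + 1)), c ≠ 0 ∧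
      IsUnit (b i) ∧ ∀ l, s l = c * algebraMap (C.presheaf.stalk z) C.functionField (b l) := by
    intro z
    obtain ⟨x, i, c, hxi, hx, hc, h⟩ := hcoord z
    exact ⟨c, fun l => stAlg k f hf z (x l), i, hc, hunit z x i hxi, h⟩
  -- the parameters
  obtain ⟨M, e, hM, he⟩ := exists_compl (k := k) (V := sects k (Es s B)) ⟨s, mem_sects_self k s B⟩
    (fun h => hs_ne (congrArg Subtype.val h))
  let e' : Fin M → Fin (N + 1) → C.functionField := fun a => (e a).1
  have heE : ∀ (z : C) a, e' a ∈ Es s B z := fun z a => (e a).2 z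
  let S := tup k s e'
  have hval : ∀ l, TupFun.val S (ev0 k M) l = s l := val_tup k s e'
  have hJs : ∀ G ∈ J, MvPolynomial.aeval s G = 0 := by
    intro G hG
    obtain ⟨x, i, c, hxi, hx, hc, h⟩ := hcoord (genericPoint C)
    rw [hJ _ x hx] at hG
    exact LocLift.aeval_eq_zero (coneI_le ((spAlg k C (genericPoint C)).comp (stAlg k f hf (genericPoint C))) x c s h hG)
  obtain ⟨𝔮, h𝔮, hle, hlt', hdimA⟩ := TupFun.exists_curve J S (ev0 k M) (fun G hG => by
      rw [show TupFun.val S (ev0 k M) = s from funext hval]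
      exact hJs G hG) (V := sects k (mapF (Es s B) (grad k J s))) (Submodule.subtype _)
    (Submodule.injective_subtype _) (fun φ => by
      refine ⟨⟨fun G => nu J S (ev0 k M) φ G.1, fun z => ?_⟩, fun G => rfl⟩
      obtain ⟨x, i, c, hxi, hx, hc, h⟩ := hcoord z
      have hJz := hJ _ x hx
      have hfs : Algebra.FormallySmooth k (X.presheaf.stalk (f z)) :=
        Coord.formallySmooth k U hUs (f z) (hU ⟨z, rfl⟩)
      obtain ⟨w, hw1, hw2, hw3⟩ := exists_local k s e' B c (fun l => stAlg k f hf z (x l)) h i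
        (hunit z x i hxi) (hres z) (heE z)
      subst hJz
      obtain ⟨v, hv, hv'⟩ := exists_grad k f hf z hfs x i hxi hx c hc h B (ev0 k M) S hval w hw2 hw3 φ
      refine ⟨v, hv, funext fun G => ?_⟩
      exact hv' G.1 G.2) (by omega)
  have hqp : 𝔮.IsPrime := h𝔮
  let A := MvPolynomial (Fin M) k ⧸ 𝔮
  let q : MvPolynomial (Fin M) k →ₐ[k] A := Ideal.Quotient.mkₐ k 𝔮
  have hq0 : ∀ a, q a = 0 ↔ a ∈ 𝔮 := fun a => Ideal.Quotient.eq_zero_iff_mem
  let ε : A →ₐ[k] k := Ideal.Quotient.liftₐ 𝔮 (ev0 k M) (fun a ha => hlt'.le ha)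
  have hε : ∀ a, ε (q a) = ev0 k M a := fun a => rfl
  let T : Fin (N + 1) → C.functionField ⊗[k] A := fun l => Algebra.TensorProduct.map (AlgHom.id k C.functionField) q (S l)
  refine ⟨A, inferInstance, inferInstance, inferInstance, inferInstance, ε, T, hdimA, fun z => ?_, fun G hG => ?_, ?_⟩
  · obtain ⟨x, i, c, hxi, hx, hc, h⟩ := hcoord z
    obtain ⟨w, hw1, hw2, hw3⟩ := exists_local k s e' B c (fun l => stAlg k f hf z (x l)) h i
        (hunit z x i hxi) (hres z) (heE z)
    refine ⟨c, fun l => stAlg k f hf z (x l),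
      fun l => Algebra.TensorProduct.map (AlgHom.id k (C.presheaf.stalk z)) q (w l), hc, IsCoord.comp k f hf z hx,
      fun l => ?_, fun l => ?_, fun hz => ?_⟩
    · refine Eq.trans ?_ (hw1 l)
      change evA k (C.presheaf.stalk z) ε (Algebra.TensorProduct.map (AlgHom.id k (C.presheaf.stalk z)) q (w l)) = _
      generalize w l = y
      induction y with
      | zero => simp
      | add p q hp hq => rw [map_add, map_add, map_add, hp, hq]
      | tmul a b =>
        rw [Algebra.TensorProduct.map_tmul, evA_tmul, evA_tmul]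
        rfl
    · have h1 : ∀ y : C.presheaf.stalk z ⊗[k] MvPolynomial (Fin M) k,
          Algebra.TensorProduct.map (AlgHom.id k C.functionField) q (extA k (MvPolynomial (Fin M) k) C z y) =
          extA k A C z (Algebra.TensorProduct.map (AlgHom.id k (C.presheaf.stalk z)) q y) := by
        intro y
        induction y with
        | zero => simp
        | add p q hp hq => rw [map_add, map_add, map_add, map_add, hp, hq]
        | tmul a b => rfl
      change Algebra.TensorProduct.map (AlgHom.id k C.functionField) q (tup k s e' l) = _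
      rw [hw2 l, map_mul, h1, Algebra.TensorProduct.map_tmul, map_one]
      rfl
    · obtain ⟨a, ha⟩ := hw3 hz
      refine ⟨q a, fun l => ?_⟩
      have h2 := Ideal.mem_map_of_mem (Algebra.TensorProduct.map (AlgHom.id k (C.presheaf.stalk z)) q) (ha l)
      rw [map_sub, Algebra.TensorProduct.map_tmul, Ideal.map_mapₐ, Algebra.TensorProduct.map_comp_includeLeft] at h2
      exact h2
  · have hG' : G ∈ J := by
      obtain ⟨x, i, c, hxi, hx, hc, h⟩ := hcoord (genericPoint C)
      rw [hJ _ x hx]
      exact ((mem_van_iff k hx G).mp hG).2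
    exact TupFun.aeval_eq_zero J S q (fun a ha => (hq0 a).mpr (hle ha)) hG'
  · by_contra hcon
    push Not at hcon
    have hT : ∀ l, T l = s l ⊗ₜ[k] (1 : A) + ∑ a, e' a l ⊗ₜ[k] q (MvPolynomial.X a) := by
      intro l
      change Algebra.TensorProduct.map (AlgHom.id k C.functionField) q (tup k s e' l) = _
      rw [tup, map_add, map_sum, Algebra.TensorProduct.map_tmul, map_one]
      rfl
    have key : ∀ (μ : A →ₗ[k] k) (a : Fin M), μ (q (MvPolynomial.X a)) = 0 := by
      intro μ
      let v : sects k (Es s B) := ∑ a, μ (q (MvPolynomial.X a)) • e a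
      have hv : ∀ l, v.1 l = ∑ a, μ (q (MvPolynomial.X a)) • e' a l := by
        intro l
        change (Submodule.subtype _ (∑ a, μ (q (MvPolynomial.X a)) • e a)) l = _
        rw [map_sum, Finset.sum_apply]
        rfl
      have h1 : ∀ l, ext C.functionField μ (T l) = μ 1 • s l + v.1 l := by
        intro l
        rw [hT, map_add, map_sum, ext_tmul, hv]
        congr 1
      have h2 : ∀ l, v.1 l = v.1 i₀ * s l := by
        intro l
        have h3 := congrArg (ext C.functionField μ) (hcon l i₀)
        rw [mul_comm (T l), mul_comm (T i₀), ext_mul_left, ext_mul_left, h1, h1, hs₀, one_mul, mul_add,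
          Algebra.smul_def, Algebra.smul_def, mul_one, mul_comm (s l)] at h3
        rw [add_left_cancel h3, mul_comm]
      obtain ⟨r, hr⟩ := exists_smul_of_proportional k s B hcoord' hres v.1 v.2 (v.1 i₀) h2
      have h4 : v ∈ Submodule.span k {(⟨s, mem_sects_self k s B⟩ : sects k (Es s B))} :=
        Submodule.mem_span_singleton.mpr ⟨r, Subtype.ext hr.symm⟩
      intro a
      exact congrFun (he (fun a => μ (q (MvPolynomial.X a))) h4) a
    have hX0 : ∀ a : Fin M, q (MvPolynomial.X a) = 0 := fun a =>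
      (Module.forall_dual_apply_eq_zero_iff k _).mp fun μ => key μ a
    have hq : q = (Algebra.ofId k A).comp (ev0 k M) := by
      apply MvPolynomial.algHom_ext
      intro a
      rw [hX0, AlgHom.comp_apply, ev0, MvPolynomial.aeval_X, map_zero]
    refine hlt'.not_ge fun p hp => ?_
    rw [← hq0, hq, AlgHom.comp_apply, RingHom.mem_ker.mp hp, map_zero]

end main

end K756.TupMain

end
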