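import Groth.Agent.Curves.K329.Pt
import Groth.Prelude.Def_CurvBase
import Groth.Prelude.Def_Curve
import Mathlib.RingTheory.TensorProduct.Maps
import Mathlib.AlgebraicGeometry.Stalk

/-!
# Definitions for families of maps from a curve to projective space given by tuples of rational functions
-/

set_option autoImplicit false
universe u
open CategoryTheory CategoryTheory.Limits AlgebraicGeometry TopologicalSpace Opposite TensorProduct

noncomputable section

namespace K756.FamDef

attribute [local instance] Curv2.stalkAlgebra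

variable (k : Type u) [Field k]

theorem specializes_stalkMap (Y : Scheme.{u}) [Y.Over (Spec (CommRingCat.of k))] {x y : Y} (h : x ⤳ y) (a : k) :
    Y.presheaf.stalkSpecializes h (Curv2.stalkMap k Y y a) = Curv2.stalkMap k Y x a := by
  rw [Curv2.stalkMap, Curv2.stalkMap, RingHom.comp_apply, RingHom.comp_apply]
  exact TopCat.Presheaf.germ_stalkSpecializes_apply Y.presheaf (U := ⊤) trivial h _

/-- The specialization map of stalks, as a homomorphism of `k`-algebras. -/
def spcAlg (Y : Scheme.{u}) [Y.Over (Spec (CommRingCat.of k))] {x y : Y} (h : x ⤳ y) :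
    Y.presheaf.stalk y →ₐ[k] Y.presheaf.stalk x :=
  { (Y.presheaf.stalkSpecializes h).hom with
    commutes' := specializes_stalkMap k Y h }

/-- The inclusion of a local ring in the function field, as a homomorphism of `k`-algebras. -/
def spAlg (Y : Scheme.{u}) [Y.Over (Spec (CommRingCat.of k))] [IsIntegral Y] (y : Y) :
    Y.presheaf.stalk y →ₐ[k] Y.functionField :=
  { algebraMap (Y.presheaf.stalk y) Y.functionField with
    commutes' := specializes_stalkMap k Y ((genericPoint_spec Y).specializes (Set.mem_univ y)) }

@[simp] theorem spAlg_apply (Y : Scheme.{u}) [Y.Over (Spec (CommRingCat.of k))] [IsIntegral Y] (y : Y)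
    (a : Y.presheaf.stalk y) : spAlg k Y y a = algebraMap (Y.presheaf.stalk y) Y.functionField a := rfl

instance (Y : Scheme.{u}) [Y.Over (Spec (CommRingCat.of k))] [IsIntegral Y] (y : Y) :
    IsScalarTower k (Y.presheaf.stalk y) Y.functionField :=
  IsScalarTower.of_algebraMap_eq fun a => ((spAlg k Y y).commutes a).symm

variable {N : ℕ}

/-- `b` is a system of homogeneous coordinates of the morphism `g` at the point `y`. -/
def IsCoord {Y : Scheme.{u}} [Y.Over (Spec (CommRingCat.of k))] (g : Y ⟶ CohB1.ProjSpace N k) (y : Y)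
    (b : Fin (N + 1) → Y.presheaf.stalk y) : Prop :=
  ∃ (i : Fin (N + 1)) (hi : IsUnit (b i)), Y.fromSpecStalk y ≫ g = K329.Pt.pt k b i hi

/-- The homogeneous polynomials vanishing on `X ⊆ P^N`, as a set: a homogeneous polynomial belongs to it when it vanishes
at the homogeneous coordinates of all points. -/
def Van {X : Scheme.{u}} [X.Over (Spec (CommRingCat.of k))] (ι : X ⟶ CohB1.ProjSpace N k) :
    Set (MvPolynomial (Fin (N + 1)) k) :=
  {G | (∃ d, G.IsHomogeneous d) ∧ ∀ (x : X) (b : Fin (N + 1) → X.presheaf.stalk x), IsCoord k ι x b →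
    MvPolynomial.aeval b G = 0}

variable (A : Type u) [CommRing A] [Algebra k A]

/-- Extension of scalars from the local ring at `z` to the function field. -/
def extA (C : Scheme.{u}) [C.Over (Spec (CommRingCat.of k))] [IsIntegral C] (z : C) :
    (C.presheaf.stalk z ⊗[k] A) →ₐ[k] (C.functionField ⊗[k] A) :=
  Algebra.TensorProduct.map (spAlg k C z) (AlgHom.id k A)

variable {A} in
/-- Evaluation at a point of the parameter space. -/
def evA (R : Type u) [CommRing R] [Algebra k R] (ε : A →ₐ[k] k) : (R ⊗[k] A) →ₐ[k] R :=
  (Algebra.TensorProduct.rid k k R : R ⊗[k] k →ₐ[k] R).comp (Algebra.TensorProduct.map (AlgHom.id k R) ε)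

@[simp] theorem evA_tmul (R : Type u) [CommRing R] [Algebra k R] (ε : A →ₐ[k] k) (r : R) (a : A) :
    evA k R ε (r ⊗ₜ a) = ε a • r := by
  simp [evA]

end K756.FamDef

end
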