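import Groth.Agent.Curves.K756.LatSeq
import Groth.Agent.Curves.K756.FamDef
import Groth.Agent.VBCurve.K708.Coho

/-!
# Cohomology of the sheaves of families on a curve

`euler_le`: `χ(S₁) ≤ h⁰(S₂) - h⁰(S₃)` for a short exact sequence of coherent modules on a proper curve;
`finrank_H0`: `H⁰` of the sheaf of a family is the space of vectors lying in all members of the family.
-/

set_option autoImplicit false
set_option linter.unusedSectionVars false
universe u
open CategoryTheory CategoryTheory.Limits AlgebraicGeometry TopologicalSpace Opposite Module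

noncomputable section

namespace K756.LatNum

open Groth.Agent Groth.Agent.CycB K475.GenStalk K756.LatSh K756.LatFree K756.LatSeq
open Groth.Agent.CurvesC

section num

variable (k : Type u) [Field k] {X : Scheme.{u}} [X.Over (Spec (CommRingCat.of k))]
  [IsProper (X ↘ Spec (CommRingCat.of k))]

theorem finrank_H1_le (hdim : topologicalKrullDim X = 1) {S : ShortComplex X.Modules} (hS : S.ShortExact)
    (h₂ : Coh.IsCoh S.X₂) :
    finrank k (Coh.HH X S.X₃ 1) ≤ finrank k (Coh.HH X S.X₂ 1) := by
  have := Groth.Agent.CurvesB.CurveRR.isNoetherian_of_proper k X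
  have h2 : Subsingleton (HV X S.X₁ 2) :=
    Groth.Agent.CurvesB.CurveRR.subsingleton_HH_of_two_le hdim.le S.X₁ 2 le_rfl
  have f2 : Module.Finite k (HV X S.X₂ 1) := K708.Coho.finite_HH k h₂ 1
  have hsurj : Function.Surjective (HV.map k S.g 1) := fun x =>
    HV.exact₃ k hS 1 x (Subsingleton.elim (α := HV X S.X₁ 2) _ _)
  exact LinearMap.finrank_le_finrank_of_surjective (R := k) (M := HV X S.X₂ 1) (M' := HV X S.X₃ 1) hsurj

/-- `χ(S₁) ≤ h⁰(S₂) - h⁰(S₃)`. -/
theorem euler_le (hdim : topologicalKrullDim X = 1) {S : ShortComplex X.Modules} (hS : S.ShortExact)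
    (h₁ : Coh.IsCoh S.X₁) (h₂ : Coh.IsCoh S.X₂) (h₃ : Coh.IsCoh S.X₃) :
    Curv2.euler k X S.X₁ ≤ (finrank k (Coh.HH X S.X₂ 0) : ℤ) - finrank k (Coh.HH X S.X₃ 0) := by
  have h := S1524.result k X S hS h₁ h₂ h₃
  rw [K708.Coho.euler_eq k hdim.le S.X₂, K708.Coho.euler_eq k hdim.le S.X₃] at h
  have h' := finrank_H1_le k hdim hS h₂
  omega

end num

section H0

attribute [local instance] Curv2.stalkAlgebra

variable (k : Type u) [Field k] {X : Scheme.{u}} [X.Over (Spec (CommRingCat.of k))] [IsIntegral X]
  {W : Type u} [AddCommGroup W]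
  [∀ x : X, Module (X.presheaf.stalk x) W] [Module X.functionField W]
  [∀ x : X, IsScalarTower (X.presheaf.stalk x) X.functionField W]
  [Module k W] [IsScalarTower k X.functionField W]
  (P : ∀ x : X, Submodule (X.presheaf.stalk x) W)

theorem smul_k (a : k) (x : X) (w : W) : Curv2.stalkMap k X x a • w = a • w := by
  rw [smul_eq x]
  have h1 : algebraMap (X.presheaf.stalk x) X.functionField (Curv2.stalkMap k X x a) =
      algebraMap k X.functionField a := (FamDef.spAlg k X x).commutes a
  rw [h1, algebraMap_smul]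

/-- The vectors lying in all members of the family. -/
def sects : Submodule k W where
  carrier := {w | ∀ x, w ∈ P x}
  zero_mem' x := (P x).zero_mem
  add_mem' h h' x := (P x).add_mem (h x) (h' x)
  smul_mem' a w h x := by
    rw [← smul_k k a x w]
    exact (P x).smul_mem _ (h x)

@[simp] theorem mem_sects {w : W} : w ∈ sects k P ↔ ∀ x, w ∈ P x := Iff.rfl

/-- Sections over the whole scheme. -/
def sectsEquiv : sects k P ≃+ Γ(mod P, ⊤) where
  toFun w := mk ⊤ w.1 fun x _ => w.2 x
  invFun s := ⟨s.1 ⟨genericPoint X, trivial⟩, fun x => by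
    rw [apply_eq s ⟨genericPoint X, trivial⟩ ⟨x, trivial⟩]
    exact apply_mem s ⟨x, trivial⟩⟩
  left_inv w := rfl
  right_inv s := ext' fun x => apply_eq s _ _
  map_add' w w' := rfl

/-- `H⁰` of the sheaf of a family. -/
def H0Equiv : sects k P ≃ₗ[k] Coh.HH X (mod P) 0 :=
  { (sectsEquiv k P).trans (Groth.Agent.CurvesB.HZero.equivAdd (mod P)).symm with
    map_smul' := fun a w => by
      apply (Groth.Agent.CurvesB.HZero.equivAdd (mod P)).injective
      change Groth.Agent.CurvesB.HZero.equivAdd (mod P)
        ((Groth.Agent.CurvesB.HZero.equivAdd (mod P)).symm (sectsEquiv k P (a • w))) =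
        Groth.Agent.CurvesB.HZero.equivAdd (mod P)
          (a • (Groth.Agent.CurvesB.HZero.equivAdd (mod P)).symm (sectsEquiv k P w))
      rw [Groth.Agent.CurvesB.HZero.equivAdd_smul_over, AddEquiv.apply_symm_apply, AddEquiv.apply_symm_apply]
      exact ext' fun x => (smul_k k a x.1 w.1).symm }

theorem finrank_H0 : finrank k (Coh.HH X (mod P) 0) = finrank k (sects k P) :=
  (H0Equiv k P).finrank_eq.symm

theorem finite_sects [IsProper (X ↘ Spec (CommRingCat.of k))] (hP : Coh.IsCoh (mod P)) :
    Module.Finite k (sects k P) := by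
  have := K708.Coho.finite_HH k hP 0
  exact Module.Finite.equiv (H0Equiv k P).symm

end H0

end K756.LatNum

end
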