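import Groth.Agent.Curves.K756.EDef
import Groth.Agent.Curves.K756.TupMain
import Groth.Agent.Curves.K756.DimDef
import Groth.Agent.Curves.K703.Node3
import Groth.Agent.Curves.K850.NumBound
import Groth.Agent.Curves.K40.TanDual
import Groth.Agent.Curves.K354.FamEx

/-!
# The dimension bound for families of maps from a curve

Assembly: numerical bound (helper850, helper703) + tangent lattice (helper40) + Krull bound for tuples + construction of
the family (helper354).
-/

set_option autoImplicit false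
universe u
open CategoryTheory CategoryTheory.Limits AlgebraicGeometry TopologicalSpace Opposite TensorProduct Module
open K756.FamDef K756.LatSh K756.LatSeq K756.LatNum K756.EDef

namespace K756.DimBound

attribute [local instance] Curv2.stalkAlgebra

open K756.Coord K756.LocLift

/-- The dimension bound. -/
theorem dimBound (k : Type u) [Field k] [IsAlgClosed k] : K756.DimDef.DimBound.{u} k := by
  intro X _ _ N ι _ hι n hn C _ hC f hf U hU hUs B hB hnum
  have hCint : IsIntegral C := hC.2.2.1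
  have hlft : LocallyOfFiniteType (X ↘ Spec (CommRingCat.of k)) := by
    rw [← hι]
    infer_instance
  have hfι : (f ≫ ι) ≫ CohB1.ProjSpace.toSpec N k = C ↘ Spec (CommRingCat.of k) := by
    rw [Category.assoc, hι, hf]
  obtain ⟨s, i₀, hs₀, hs⟩ := exists_isCoord_one k hfι (genericPoint C)
  obtain ⟨sX, hsX⟩ := exists_isCoord k ι hι (genericPoint X)
  let J : Ideal (MvPolynomial (Fin (N + 1)) k) := coneI (k := k) sX
  have hJ : ∀ (x : X) (b : Fin (N + 1) → X.presheaf.stalk x), IsCoord k ι x b → J = coneI (k := k) b :=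
    fun x b hb => coneI_eq_coneI k hsX hb
  -- coordinates at the points of `C`
  have hcoord : ∀ z : C, ∃ (x : Fin (N + 1) → X.presheaf.stalk (f z)) (i : Fin (N + 1)) (c : C.functionField),
      x i = 1 ∧ IsCoord k ι (f z) x ∧ c ≠ 0 ∧
      ∀ l, s l = c * algebraMap (C.presheaf.stalk z) C.functionField (stAlg k f hf z (x l)) := by
    intro z
    obtain ⟨x, i, hxi, hx⟩ := exists_isCoord_one k hι (f z)
    obtain ⟨c, hc, h⟩ := exists_smul k (IsCoord.comp k f hf z hx) hs
    exact ⟨x, i, c, hxi, hx, hc, h⟩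
  have hunit : ∀ (z : C) (x : Fin (N + 1) → X.presheaf.stalk (f z)) (i : Fin (N + 1)), x i = 1 →
      IsUnit (stAlg k f hf z (x i)) := fun z x i h => by
    rw [h, map_one]
    exact isUnit_one
  have hJs : J ≤ coneI (k := k) s := by
    obtain ⟨x, i, c, hxi, hx, hc, h⟩ := hcoord (genericPoint C)
    rw [hJ _ x hx]
    exact coneI_le ((spAlg k C (genericPoint C)).comp (stAlg k f hf (genericPoint C))) x c s h
  have hδ : grad k J s s = 0 := funext fun G => sum_pderiv_mul (hJs G.2)
  obtain ⟨hM, Φ, hΦ, hΦ'⟩ := K40.TanDual.exists_dual_tangent k X N ι hι n hn C hC f hf U hU hUs s i₀ hs hs₀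
  have hgrad : ∀ v, (grad k J s v = 0 ↔
      ∀ G ∈ Van k ι, ∑ l, MvPolynomial.aeval s (MvPolynomial.pderiv l G) * v l = 0) := by
    intro v
    constructor
    · intro h G hG
      exact congrFun h ⟨G, ((mem_van_iff k hsX G).mp hG).2⟩
    · intro h
      funext G
      refine coneI_induction k hsX (fun G => ∑ l, MvPolynomial.aeval s (MvPolynomial.pderiv l G) * v l = 0) ?_ ?_ h
        G.1 G.2
      · simp
      · intro G H hG hH
        simp only [map_add, add_mul, Finset.sum_add_distrib, hG, hH, add_zero]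
  have hbr : ∀ (z : C) (t : Fin (N + 1) → C.functionField),
      (∃ v ∈ Ls s z, grad k J s v = 0 ∧ ∀ l, t l = v l - v i₀ * s l) ↔ ∃ ξ, K703.LatDual.IsIntAt _ z ξ ∧ Φ ξ = t := by
    intro z t
    refine Iff.trans ?_ (hΦ' z t)
    constructor
    · rintro ⟨v, hv, hv', ht⟩
      obtain ⟨x, i, c, hxi, hx, hc, h⟩ := hcoord z
      choose u hu using fun l => (mem_fr_iff c (fun l => stAlg k f hf z (x l)) h i (hunit z x i hxi) _).mp (hv l)
      exact ⟨v, ⟨c, _, u, IsCoord.comp k f hf z hx, h, hu⟩, (hgrad v).mp hv', ht⟩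
    · rintro ⟨v, ⟨c, b, u, hb, hs', hu⟩, hv', ht⟩
      obtain ⟨i, hi, -⟩ := id hb
      exact ⟨v, fun l => (mem_fr_iff c b hs' i hi _).mpr ⟨u l, hu l⟩, (hgrad v).mpr hv', ht⟩
  obtain ⟨h1, h2, h3⟩ := K850.NumBound.num_bound k C hC s i₀ hs₀ B hB (grad k J s) hδ hM Φ hΦ hbr
  obtain ⟨A, _, _, _, _, ε, S, hA, hloc, hX, hne⟩ := K756.TupMain.exists_tuple k hι hC f hf U hU hUs s i₀ hs hs₀ B hB
    J hJ h1 h2 (by zify; linarith)
  exact K354.FamEx.exists_family k X N ι hι C hC f hf A hA ε B hB S hloc hX s hs hne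

end K756.DimBound
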