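import Groth.Agent.Curves.K756.GluePts

/-!
# The domain of definition of a point with values in the function field

`exists_partial`: for `Y` integral, `Z` separated and locally of finite type over `S`, a morphism `γ : Spec K(Y) ⟶ Z` over `S`
comes from a partial map which is defined at every point `y` such that `γ` extends to `Spec O_{Y,y}`.
-/

set_option autoImplicit false
universe u
open CategoryTheory CategoryTheory.Limits AlgebraicGeometry TopologicalSpace

namespace K756.DomExt

variable {Y Z S : Scheme.{u}} [IsIntegral Y] (sY : Y ⟶ S) (sZ : Z ⟶ S)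

theorem gen_eq (f : Y.PartialMap Z) {y : Y} (hy : y ∈ f.domain) :
    Spec.map (Y.presheaf.stalkSpecializes (genericPoint_specializes y)) ≫ f.fromSpecStalkOfMem hy =
      f.fromFunctionField := by
  rw [Scheme.PartialMap.fromFunctionField, Scheme.PartialMap.fromSpecStalkOfMem,
    Scheme.PartialMap.fromSpecStalkOfMem, ← Category.assoc]
  congr 1
  rw [← cancel_mono f.domain.ι, Category.assoc, Scheme.Opens.fromSpecStalkOfMem_ι,
    Scheme.Opens.fromSpecStalkOfMem_ι]
  exact Scheme.SpecMap_stalkSpecializes_fromSpecStalk _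

theorem isDominant_mem (U : Y.Opens) (hg : genericPoint Y ∈ U) :
    IsDominant (U.fromSpecStalkOfMem (genericPoint Y) hg) := by
  refine ⟨?_⟩
  have h : genericPoint Y ∈ Set.range (Y.fromSpecStalk (genericPoint Y)) := by
    rw [Scheme.range_fromSpecStalk]
    exact specializes_rfl
  obtain ⟨p, hp⟩ := h
  have hq : U.ι (U.fromSpecStalkOfMem (genericPoint Y) hg p) = genericPoint Y := by
    refine Eq.trans ?_ hp
    exact congrArg (fun m : Spec (Y.presheaf.stalk (genericPoint Y)) ⟶ Y => m p)
      (Scheme.Opens.fromSpecStalkOfMem_ι U (genericPoint Y) hg)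
  refine dense_iff_closure_eq.mpr (Set.eq_univ_of_forall fun z => ?_)
  have h1 : U.fromSpecStalkOfMem (genericPoint Y) hg p ⤳ z := by
    rw [← U.ι.isOpenEmbedding.isInducing.specializes_iff, hq]
    exact genericPoint_specializes _
  exact h1.mem_closed isClosed_closure (subset_closure ⟨p, rfl⟩)

theorem exists_partial [Z.IsSeparated] [S.IsSeparated] [LocallyOfFiniteType sZ]
    (γ : Spec Y.functionField ⟶ Z) (hγ : γ ≫ sZ = Y.fromSpecStalk (genericPoint Y) ≫ sY) :
    ∃ g : Y.PartialMap Z, g.hom ≫ sZ = g.domain.ι ≫ sY ∧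
      (∀ (y : Y) (φ : Spec (Y.presheaf.stalk y) ⟶ Z), φ ≫ sZ = Y.fromSpecStalk y ≫ sY →
        Spec.map (Y.presheaf.stalkSpecializes (genericPoint_specializes y)) ≫ φ = γ →
          ∃ hy : y ∈ g.domain, g.fromSpecStalkOfMem hy = φ) ∧
      ∀ (y : Y) (hy : y ∈ g.domain),
        Spec.map (Y.presheaf.stalkSpecializes (genericPoint_specializes y)) ≫ g.fromSpecStalkOfMem hy = γ := by
  let r : Y.RationalMap Z := Scheme.RationalMap.ofFunctionField sY sZ γ hγ
  have hrγ : r.fromFunctionField = γ := Scheme.RationalMap.fromFunctionField_ofFunctionField sY sZ γ hγ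
  have hff : r.toPartialMap.fromFunctionField = γ := by
    have h1 := Scheme.RationalMap.toRationalMap_toPartialMap r
    have h2 := congrArg Scheme.RationalMap.fromFunctionField h1
    rw [Scheme.RationalMap.fromFunctionField_toRationalMap] at h2
    rw [h2]
    exact hrγ
  refine ⟨r.toPartialMap, ?_, ?_, fun y hy => (gen_eq _ hy).trans hff⟩
  · have hne : (r.toPartialMap.domain : Set Y).Nonempty := r.toPartialMap.dense_domain.nonempty
    have hg := (genericPoint_specializes _).mem_open r.toPartialMap.domain.2 hne.choose_spec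
    have hd := isDominant_mem r.toPartialMap.domain hg
    apply ext_of_isDominant (ι := r.toPartialMap.domain.fromSpecStalkOfMem (genericPoint Y) hg)
    rw [← Category.assoc]
    have h1 : r.toPartialMap.domain.fromSpecStalkOfMem (genericPoint Y) hg ≫ r.toPartialMap.hom = γ := hff
    rw [h1, hγ, ← Category.assoc, Scheme.Opens.fromSpecStalkOfMem_ι]
  · intro y φ hφ hφγ
    have h0 := Scheme.PartialMap.mem_domain_ofFromSpecStalk sY sZ φ hφ
    have h1 : (Scheme.PartialMap.ofFromSpecStalk sY sZ φ hφ).toRationalMap = r := by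
      apply Scheme.RationalMap.eq_of_fromFunctionField_eq
      rw [hrγ, Scheme.RationalMap.fromFunctionField_toRationalMap, ← gen_eq _ h0,
        Scheme.PartialMap.fromSpecStalkOfMem_ofFromSpecStalk]
      exact hφγ
    have hy : y ∈ r.toPartialMap.domain := Scheme.RationalMap.mem_domain.mpr ⟨_, h0, h1⟩
    refine ⟨hy, ?_⟩
    apply GluePts.ext_stalk y
    rw [hφγ, gen_eq _ hy, hff]

end K756.DomExt
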