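import Groth.Agent.Curves.K756.LatSeq
import Groth.Agent.Curves.K756.FamDef

/-!
# The lattices of tuples on a curve

`Ls s z`: the tuples of rational functions all of whose entries lie in the fractional ideal generated by the entries of
`s`; `Es s B z`: the same, constrained at the points `z` of `B` to `O_z s + 𝔪_z Ls s z`; `grad`: the map
`v ↦ (∑ ∂_l G (s) v_l)_G`.
-/

set_option autoImplicit false
set_option linter.unusedSectionVars false
universe u
open CategoryTheory CategoryTheory.Limits AlgebraicGeometry TopologicalSpace Opposite Module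

noncomputable section

namespace K756.EDef

variable {C : Scheme.{u}} [IsIntegral C] {N : ℕ}

/-- The fractional ideal generated by the entries of `s`. -/
def fr (s : Fin (N + 1) → C.functionField) (z : C) : Submodule (C.presheaf.stalk z) C.functionField :=
  Submodule.span (C.presheaf.stalk z) (Set.range s)

/-- Tuples with entries in the fractional ideal generated by the entries of `s`. -/
def Ls (s : Fin (N + 1) → C.functionField) (z : C) :
    Submodule (C.presheaf.stalk z) (Fin (N + 1) → C.functionField) where
  carrier := {v | ∀ l, v l ∈ fr s z}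
  zero_mem' _ := (fr s z).zero_mem
  add_mem' h h' l := (fr s z).add_mem (h l) (h' l)
  smul_mem' a _ h l := (fr s z).smul_mem a (h l)

theorem mem_Ls {s : Fin (N + 1) → C.functionField} {z : C} {v : Fin (N + 1) → C.functionField} :
    v ∈ Ls s z ↔ ∀ l, v l ∈ fr s z := Iff.rfl

open Classical in
/-- Tuples constrained at the points of `B`. -/
def Es (s : Fin (N + 1) → C.functionField) (B : Finset C) (z : C) :
    Submodule (C.presheaf.stalk z) (Fin (N + 1) → C.functionField) :=
  if z ∈ B then Submodule.span (C.presheaf.stalk z) {s} ⊔
    IsLocalRing.maximalIdeal (C.presheaf.stalk z) • Ls s z else Ls s z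

theorem Es_of_mem (s : Fin (N + 1) → C.functionField) {B : Finset C} {z : C} (h : z ∈ B) :
    Es s B z = Submodule.span (C.presheaf.stalk z) {s} ⊔ IsLocalRing.maximalIdeal (C.presheaf.stalk z) • Ls s z :=
  if_pos h

theorem Es_of_notMem (s : Fin (N + 1) → C.functionField) {B : Finset C} {z : C} (h : z ∉ B) :
    Es s B z = Ls s z := if_neg h

/-- If `s = c b` with a coordinate of `b` a unit, the fractional ideal is generated by `c`. -/
theorem fr_eq {s : Fin (N + 1) → C.functionField} {z : C} (c : C.functionField)
    (b : Fin (N + 1) → C.presheaf.stalk z)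
    (hs : ∀ l, s l = c * algebraMap (C.presheaf.stalk z) C.functionField (b l)) (i : Fin (N + 1))
    (hi : IsUnit (b i)) : fr s z = Submodule.span (C.presheaf.stalk z) {c} := by
  apply le_antisymm
  · rw [fr, Submodule.span_le]
    rintro _ ⟨l, rfl⟩
    rw [SetLike.mem_coe, Submodule.mem_span_singleton]
    exact ⟨b l, by rw [hs l, Algebra.smul_def, mul_comm]⟩
  · rw [Submodule.span_singleton_le_iff_mem]
    obtain ⟨a, ha⟩ := hi.exists_left_inv
    have h1 : c = a • s i := by
      rw [hs i, Algebra.smul_def, mul_left_comm, ← map_mul, ha, map_one, mul_one]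
    rw [h1]
    exact (fr s z).smul_mem a (Submodule.subset_span ⟨i, rfl⟩)

theorem mem_fr_iff {s : Fin (N + 1) → C.functionField} {z : C} (c : C.functionField)
    (b : Fin (N + 1) → C.presheaf.stalk z)
    (hs : ∀ l, s l = c * algebraMap (C.presheaf.stalk z) C.functionField (b l)) (i : Fin (N + 1))
    (hi : IsUnit (b i)) (w : C.functionField) :
    w ∈ fr s z ↔ ∃ u : C.presheaf.stalk z, w = c * algebraMap (C.presheaf.stalk z) C.functionField u := by
  rw [fr_eq c b hs i hi, Submodule.mem_span_singleton]
  constructor
  · rintro ⟨u, rfl⟩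
    exact ⟨u, by rw [Algebra.smul_def, mul_comm]⟩
  · rintro ⟨u, rfl⟩
    exact ⟨u, by rw [Algebra.smul_def, mul_comm]⟩

attribute [local instance] Curv2.stalkAlgebra

/-- The gradient map at `s`. -/
def grad (k : Type u) [Field k] [C.Over (Spec (CommRingCat.of k))] (J : Ideal (MvPolynomial (Fin (N + 1)) k))
    (s : Fin (N + 1) → C.functionField) :
    (Fin (N + 1) → C.functionField) →ₗ[C.functionField] (J → C.functionField) where
  toFun v G := ∑ l, MvPolynomial.aeval s (MvPolynomial.pderiv l G.1) * v l
  map_add' v v' := by
    funext G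
    simp only [Pi.add_apply, mul_add, Finset.sum_add_distrib]
  map_smul' a v := by
    funext G
    simp only [Pi.smul_apply, smul_eq_mul, Finset.mul_sum, RingHom.id_apply]
    exact Finset.sum_congr rfl fun l _ => by ring

end K756.EDef

end
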