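import Groth.Agent.Curves.K756.Coord
import Groth.Agent.Curves.K329.Eqn

/-!
# Points of `P^N` satisfying the equations of a closed subscheme factor through it
-/

set_option autoImplicit false
universe u
open CategoryTheory CategoryTheory.Limits AlgebraicGeometry TopologicalSpace

namespace K756.FacVan

open K756.FamDef K756.Coord

attribute [local instance] Curv2.stalkAlgebra

variable (k : Type u) [Field k] {X : Scheme.{u}} [X.Over (Spec (CommRingCat.of k))] [IsReduced X] {N : ℕ}
  (ι : X ⟶ CohB1.ProjSpace N k)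

theorem ev_eq_aeval {B : Type u} [CommRing B] [Algebra k B] (b : Fin (N + 1) → B)
    (G : MvPolynomial (Fin (N + 1)) k) : K329.Pt.ev k b G = MvPolynomial.aeval b G := rfl

theorem mem_van_of_isEqn {F : MvPolynomial (Fin (N + 1)) k} {d : ℕ} (hF : K329.Eqn.IsEqn ι F d) : F ∈ Van k ι := by
  refine ⟨⟨d, hF.2.1⟩, fun x b hb => ?_⟩
  obtain ⟨i, hi, h⟩ := hb
  have := K329.Eqn.ev_eq_zero ι b i hi (X.fromSpecStalk x) h hF
  exact this

/-- Factorization. -/
theorem exists_factor [IsClosedImmersion ι] {B : Type u} [CommRing B] [Algebra k B] [_root_.IsReduced B]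
    (w : Fin (N + 1) → B) (i : Fin (N + 1)) (hi : IsUnit (w i))
    (h : ∀ G ∈ Van k ι, MvPolynomial.aeval w G = 0) :
    ∃ m : Spec (CommRingCat.of B) ⟶ X, m ≫ ι = K329.Pt.pt k w i hi :=
  K329.Eqn.exists_factor ι w i hi fun F d hF => h F (mem_van_of_isEqn k ι hF)

end K756.FacVan
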