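import Mathlib.AlgebraicGeometry.Birational.RationalMap
import Mathlib.AlgebraicGeometry.Morphisms.Separated

/-!
# Gluing morphisms given on the spectra of the local rings

`exists_hom`: for `Y` integral and `Z` separated, locally of finite type over `S`, a family of `S`-morphisms
`φ y : Spec O_{Y,y} ⟶ Z` inducing the same morphism on the generic point comes from a morphism `Y ⟶ Z`.
-/

set_option autoImplicit false
universe u
open CategoryTheory CategoryTheory.Limits AlgebraicGeometry TopologicalSpace

namespace K756.GluePts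

variable {Y Z S : Scheme.{u}} [IsIntegral Y] (sY : Y ⟶ S) (sZ : Z ⟶ S)

/-- Two morphisms from the spectrum of a local ring of an integral scheme to a separated scheme which agree at the generic
point are equal. -/
theorem ext_stalk [Z.IsSeparated] (y : Y) (a b : Spec (Y.presheaf.stalk y) ⟶ Z)
    (h : Spec.map (Y.presheaf.stalkSpecializes (genericPoint_specializes y)) ≫ a =
      Spec.map (Y.presheaf.stalkSpecializes (genericPoint_specializes y)) ≫ b) : a = b := by
  have h1 : Function.Injective (Y.presheaf.stalkSpecializes (genericPoint_specializes y)).hom :=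
    IsFractionRing.injective (Y.presheaf.stalk y) Y.functionField
  have h2 : IsDominant (Spec.map (Y.presheaf.stalkSpecializes (genericPoint_specializes y))) := by
    refine ⟨?_⟩
    have h3 := PrimeSpectrum.denseRange_comap_iff_ker_le_nilRadical
      (Y.presheaf.stalkSpecializes (genericPoint_specializes y)).hom
    refine h3.mpr ?_
    rw [(RingHom.injective_iff_ker_eq_bot _).mp h1]
    exact bot_le
  exact ext_of_isDominant (ι := Spec.map (Y.presheaf.stalkSpecializes (genericPoint_specializes y))) h

theorem isDominant_fromSpecStalk : IsDominant (Y.fromSpecStalk (genericPoint Y)) := by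
  refine ⟨?_⟩
  have h : genericPoint Y ∈ Set.range (Y.fromSpecStalk (genericPoint Y)) := by
    rw [Scheme.range_fromSpecStalk]
    exact specializes_rfl
  refine dense_iff_closure_eq.mpr (Set.eq_univ_of_univ_subset ?_)
  rw [← genericPoint_closure (α := Y)]
  exact closure_mono (Set.singleton_subset_iff.mpr h)

theorem exists_hom [Z.IsSeparated] [S.IsSeparated] [LocallyOfFiniteType sZ]
    (φ : ∀ y : Y, Spec (Y.presheaf.stalk y) ⟶ Z) (hφ : ∀ y, φ y ≫ sZ = Y.fromSpecStalk y ≫ sY)
    (γ : Spec Y.functionField ⟶ Z)
    (hγ : ∀ y, Spec.map (Y.presheaf.stalkSpecializes (genericPoint_specializes y)) ≫ φ y = γ) :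
    ∃ g : Y ⟶ Z, g ≫ sZ = sY ∧ ∀ y, Y.fromSpecStalk y ≫ g = φ y := by
  -- all the partial maps are equivalent
  have hgen : ∀ (f : Y.PartialMap Z) {y : Y} (hy : y ∈ f.domain),
      Spec.map (Y.presheaf.stalkSpecializes (genericPoint_specializes y)) ≫ f.fromSpecStalkOfMem hy =
        f.fromFunctionField := by
    intro f y hy
    rw [Scheme.PartialMap.fromFunctionField, Scheme.PartialMap.fromSpecStalkOfMem,
      Scheme.PartialMap.fromSpecStalkOfMem, ← Category.assoc]
    congr 1
    rw [← cancel_mono f.domain.ι, Category.assoc, Scheme.Opens.fromSpecStalkOfMem_ι,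
      Scheme.Opens.fromSpecStalkOfMem_ι]
    exact Scheme.SpecMap_stalkSpecializes_fromSpecStalk _
  let F : Y → Y.PartialMap Z := fun y => Scheme.PartialMap.ofFromSpecStalk sY sZ (φ y) (hφ y)
  have hF : ∀ y, y ∈ (F y).domain := fun y => Scheme.PartialMap.mem_domain_ofFromSpecStalk sY sZ (φ y) (hφ y)
  have hF' : ∀ y, (F y).fromFunctionField = γ := by
    intro y
    rw [← hgen (F y) (hF y), ← hγ y]
    congr 1
    exact Scheme.PartialMap.fromSpecStalkOfMem_ofFromSpecStalk sY sZ (φ y) (hφ y)
  let r : Y.RationalMap Z := (F (genericPoint Y)).toRationalMap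
  have hr : ∀ y, (F y).toRationalMap = r := fun y =>
    Scheme.RationalMap.eq_of_fromFunctionField_eq _ _ ((hF' y).trans (hF' (genericPoint Y)).symm)
  have hdom : r.toPartialMap.domain = ⊤ := by
    apply Opens.ext
    refine Set.eq_univ_of_forall fun y => ?_
    exact Scheme.RationalMap.mem_domain.mpr ⟨F y, hF y, hr y⟩
  have hff : r.toPartialMap.fromFunctionField = γ := by
    have h1 := Scheme.RationalMap.toRationalMap_toPartialMap r
    have h2 := congrArg Scheme.RationalMap.fromFunctionField h1
    rw [Scheme.RationalMap.fromFunctionField_toRationalMap] at h2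
    rw [h2]
    exact hF' (genericPoint Y)
  generalize r.toPartialMap = f at hdom hff
  obtain ⟨U, hU, f⟩ := f
  obtain rfl : U = ⊤ := hdom
  refine ⟨Y.topIso.inv ≫ f, ?_, ?_⟩
  · have h3 : Y.fromSpecStalk (genericPoint Y) ≫ Y.topIso.inv ≫ f = γ := by
      rw [← hff, Scheme.PartialMap.fromFunctionField, Scheme.PartialMap.fromSpecStalkOfMem, ← Category.assoc]
      congr 1
      rw [← cancel_mono (⊤ : Y.Opens).ι, Scheme.Opens.fromSpecStalkOfMem_ι, Category.assoc]
      simp
    have := isDominant_fromSpecStalk (Y := Y)
    apply ext_of_isDominant (ι := Y.fromSpecStalk (genericPoint Y))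
    rw [← Category.assoc, h3, ← hγ (genericPoint Y), Category.assoc, hφ, ← Category.assoc]
    congr 1
    exact Scheme.SpecMap_stalkSpecializes_fromSpecStalk _
  · intro y
    apply ext_stalk y
    rw [hγ, ← Category.assoc, Scheme.SpecMap_stalkSpecializes_fromSpecStalk, ← hff,
      Scheme.PartialMap.fromFunctionField, Scheme.PartialMap.fromSpecStalkOfMem, ← Category.assoc]
    congr 1
    rw [← cancel_mono (⊤ : Y.Opens).ι, Scheme.Opens.fromSpecStalkOfMem_ι, Category.assoc]
    simp

end K756.GluePts
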