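import Groth.Agent.Curves.K756.LatSh
import Groth.Agent.Sga67.LocBasisStalk
import Groth.Agent.Krr.H487.KerRank
import Groth.Agent.Curves.K321.LatLoc

/-!
# Nice families of submodules give locally free sheaves

`isFinLocFreeOfRank`: the sheaf of a nice family of rank `r` is locally free of rank `r`; `exists_locAt`: bases of the
generic stalk given by local bases.
-/

set_option autoImplicit false
set_option linter.unusedSectionVars false
universe u
open CategoryTheory CategoryTheory.Limits AlgebraicGeometry TopologicalSpace Opposite Module

noncomputable section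

namespace K756.LatFree

open Groth.Agent Groth.Agent.CycB K475.GenStalk K756.LatSh
open Groth.Agent.Sga67.Sec Groth.Agent.Sga67.LocBasis Groth.Agent.Sga67.LocBasisStalk
open K321.LatLoc

variable {X : Scheme.{u}} [IsIntegral X] {W : Type u} [AddCommGroup W]
  [∀ x : X, Module (X.presheaf.stalk x) W] [Module X.functionField W]
  [∀ x : X, IsScalarTower (X.presheaf.stalk x) X.functionField W]
  {P : ∀ x : X, Submodule (X.presheaf.stalk x) W}

theorem algebraMap_eta (a : X.presheaf.stalk (genericPoint X)) :
    (@algebraMap (X.presheaf.stalk (genericPoint X)) X.functionField _ _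
      (stalkFunctionFieldAlgebra X (genericPoint X)) a) = a := by
  obtain ⟨U, hU, r, rfl⟩ := TopCat.Presheaf.exists_germ_eq X.presheaf a
  exact TopCat.Presheaf.germ_stalkSpecializes_apply X.presheaf hU (spec (η X)) r

theorem algebraMap_injective (x : X) :
    Function.Injective (algebraMap (X.presheaf.stalk x) X.functionField) :=
  IsFractionRing.injective (X.presheaf.stalk x) X.functionField

/-- Sections of a nice family given by a spanning family. -/
def sec {r : ℕ} {U : X.Opens} (v : Fin r → W)
    (hP : ∀ y ∈ U, P y = Submodule.span (X.presheaf.stalk y) (Set.range v)) (i : Fin r) : Sec (mod P) U :=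
  (mk U (v i) fun y hy => by
    rw [hP y hy]
    exact Submodule.subset_span ⟨i, rfl⟩ : Γ(mod P, U))

theorem val_ger_sec {r : ℕ} {U : X.Opens} (v : Fin r → W)
    (hP : ∀ y ∈ U, P y = Submodule.span (X.presheaf.stalk y) (Set.range v)) (i : Fin r) (x : X) (hx : x ∈ U) :
    val P x (ger (mod P) x hx (sec v hP i)) = v i := val_germ P x hx _

theorem linearIndependent_stalk {r : ℕ} {v : Fin r → W} (hv : LinearIndependent X.functionField v) (x : X) :
    LinearIndependent (X.presheaf.stalk x) v := by
  rw [Fintype.linearIndependent_iff] at hv ⊢
  intro g hg i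
  have h1 := hv (fun i => algebraMap _ _ (g i)) (by simpa only [smul_eq x] using hg) i
  exact algebraMap_injective x (h1.trans (map_zero _).symm)

theorem isLocBasis_sec {r : ℕ} {U : X.Opens} (v : Fin r → W) (hv : LinearIndependent X.functionField v)
    (hP : ∀ y ∈ U, P y = Submodule.span (X.presheaf.stalk y) (Set.range v)) : IsLocBasis (sec v hP) := by
  refine isLocBasis_of_stalks _ ?_ ?_
  · intro x hx a ha
    have h1 := congrArg (valL P x) ha
    rw [map_sum, map_zero] at h1
    simp only [map_smul, valL_apply, val_ger_sec] at h1
    exact Fintype.linearIndependent_iff.mp (linearIndependent_stalk hv x) a h1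
  · intro x hx t
    have h1 : val P x t ∈ P x := by
      obtain ⟨V, hxV, h⟩ := (range_val P x _).mp ⟨t, rfl⟩
      exact h x hxV
    rw [hP x hx, Submodule.mem_span_range_iff_exists_fun] at h1
    obtain ⟨c, hc⟩ := h1
    refine ⟨c, val_injective P x ?_⟩
    rw [← hc, ← valL_apply, map_sum]
    simp only [map_smul, valL_apply, val_ger_sec]

/-- The sheaf of a nice family is locally free. -/
theorem isFinLocFreeOfRank {r : ℕ} (h : Nice P r) : FlatMod.IsFinLocFreeOfRank r (mod P) := by
  rw [Krr.H487.KerRank.isFinLocFreeOfRank_iff]
  intro x
  obtain ⟨U, hx, v, hv, hP⟩ := h x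
  exact ⟨U, hx, _, isLocBasis_sec v hv hP⟩

/-- Bases of the generic stalk. -/
theorem exists_locAt {r : ℕ} {U : X.Opens} {x : X} (hx : x ∈ U) (v : Fin r → W)
    (hv : LinearIndependent X.functionField v)
    (hP : ∀ y ∈ U, P y = Submodule.span (X.presheaf.stalk y) (Set.range v)) :
    ∃ β : Basis (Fin r) (X.presheaf.stalk (genericPoint X)) ((mod P).presheaf.stalk (genericPoint X)),
      LocAt (mod P) x β ∧ ∀ i, val P (genericPoint X) (β i) = v i := by
  obtain ⟨β, h1, h2⟩ := K321.LatLoc.exists_locAt (M := mod P) hx _ (isLocBasis_sec v hv hP)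
  exact ⟨β, h1, fun i => by rw [h2 i, val_ger_sec]⟩

/-- The values on the generic stalk form a linear map over the function field. -/
theorem val_smul_eta (P : ∀ x : X, Submodule (X.presheaf.stalk x) W) (a : X.presheaf.stalk (genericPoint X)) (m : (mod P).presheaf.stalk (genericPoint X)) :
    val P (genericPoint X) (a • m) = (a : X.functionField) • val P (genericPoint X) m :=
  (val_smul P _ a m).trans ((smul_eq (genericPoint X) a _).trans
    (congrArg (fun c : X.functionField => c • val P (genericPoint X) m) (algebraMap_eta a)))

/-- The values on the generic stalk, as a linear map over the function field. -/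
def valK (P : ∀ x : X, Submodule (X.presheaf.stalk x) W) :
    (mod P).presheaf.stalk (genericPoint X) →ₗ[X.functionField] W where
  toFun := val P (genericPoint X)
  map_add' := map_add _
  map_smul' := val_smul_eta P

@[simp] theorem valK_apply (m : (mod P).presheaf.stalk (genericPoint X)) :
    valK P m = val P (genericPoint X) m := rfl

end K756.LatFree

end
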