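import Groth.Agent.Curves.K756.LatFree
import Groth.Agent.VarietyB.ExactLoc
import Mathlib.LinearAlgebra.FreeModule.PID

/-!
# Morphisms and exact sequences of sheaves given by families of submodules

`mor φ`: the morphism `mod P ⟶ mod P'` given by a linear map `φ : W → W'` with `φ (P x) ⊆ P' x`;
`shortExact`: short exact sequences; `nice_map_ker`: for a nice family `P` on a scheme whose local rings are principal
ideal rings the families `φ (P x)` and `P x ∩ ker φ` are nice.
-/

set_option autoImplicit false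
set_option linter.unusedSectionVars false
universe u
open CategoryTheory CategoryTheory.Limits AlgebraicGeometry TopologicalSpace Opposite Module

noncomputable section

namespace K756.LatSeq

open Groth.Agent Groth.Agent.CycB K475.GenStalk K756.LatSh K756.LatFree
open Groth.Agent.CycB.StalkExact

variable {X : Scheme.{u}} [IsIntegral X] {W : Type u} [AddCommGroup W]
  [∀ x : X, Module (X.presheaf.stalk x) W] [Module X.functionField W]
  [∀ x : X, IsScalarTower (X.presheaf.stalk x) X.functionField W]
  {W' : Type u} [AddCommGroup W']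
  [∀ x : X, Module (X.presheaf.stalk x) W'] [Module X.functionField W']
  [∀ x : X, IsScalarTower (X.presheaf.stalk x) X.functionField W']
  {W'' : Type u} [AddCommGroup W'']
  [∀ x : X, Module (X.presheaf.stalk x) W''] [Module X.functionField W'']
  [∀ x : X, IsScalarTower (X.presheaf.stalk x) X.functionField W'']
  {P : ∀ x : X, Submodule (X.presheaf.stalk x) W}
  {P' : ∀ x : X, Submodule (X.presheaf.stalk x) W'}
  {P'' : ∀ x : X, Submodule (X.presheaf.stalk x) W''}

theorem map_smul_stalk (φ : W →ₗ[X.functionField] W') (x : X) (r : X.presheaf.stalk x) (w : W) :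
    φ (r • w) = r • φ w := by
  rw [smul_eq x r w, map_smul, ← smul_eq x r (φ w)]

/-- A linear map over the function field, as a linear map over a local ring. -/
def resL (φ : W →ₗ[X.functionField] W') (x : X) : W →ₗ[X.presheaf.stalk x] W' where
  toFun := φ
  map_add' := map_add φ
  map_smul' := map_smul_stalk φ x

@[simp] theorem resL_apply (φ : W →ₗ[X.functionField] W') (x : X) (w : W) : resL φ x w = φ w := rfl

/-- The action of a linear map on sections. -/
def app (φ : W →ₗ[X.functionField] W') (h : ∀ x, ∀ w ∈ P x, φ w ∈ P' x) (U : X.Opens) :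
    Γ(mod P, U) →+ Γ(mod P', U) where
  toFun s := ⟨fun x => φ (s.1 x), fun x y => congrArg φ (apply_eq s x y), fun x => h x.1 _ (apply_mem s x)⟩
  map_zero' := ext' fun _ => map_zero φ
  map_add' _ _ := ext' fun _ => map_add φ _ _

@[simp] theorem app_apply (φ : W →ₗ[X.functionField] W') (h : ∀ x, ∀ w ∈ P x, φ w ∈ P' x) {U : X.Opens}
    (s : Γ(mod P, U)) (x : U) : (app φ h U s).1 x = φ (s.1 x) := rfl

/-- The morphism of sheaves given by a linear map. -/
def mor (φ : W →ₗ[X.functionField] W') (h : ∀ x, ∀ w ∈ P x, φ w ∈ P' x) : mod P ⟶ mod P' :=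
  ⟨PresheafOfModules.homMk
    { app := fun U => AddCommGrpCat.ofHom (app φ h U.unop)
      naturality := fun {U V} i => by
        ext s
        rfl }
    (fun U r s => ext' (U := U.unop) fun x => map_smul_stalk φ x.1 _ _)⟩

theorem mor_app (φ : W →ₗ[X.functionField] W') (h : ∀ x, ∀ w ∈ P x, φ w ∈ P' x) {U : X.Opens}
    (s : Γ(mod P, U)) : (mor φ h).app U s = app φ h U s := rfl

theorem val_mor (φ : W →ₗ[X.functionField] W') (h : ∀ x, ∀ w ∈ P x, φ w ∈ P' x) (x : X)
    (m : (mod P).presheaf.stalk x) : val P' x (stalkLin (mor φ h) x m) = φ (val P x m) := by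
  obtain ⟨U, hx, g, rfl⟩ := TopCat.Presheaf.exists_germ_eq (mod P).presheaf m
  rw [stalkLin_germ, val_germ, val_germ]
  rfl

theorem exists_val (hP : Good P) (x : X) {w : W} (hw : w ∈ P x) : ∃ m, val P x m = w :=
  (range_val P x w).mpr (hP x w hw)

theorem val_mem (x : X) (m : (mod P).presheaf.stalk x) : val P x m ∈ P x := by
  obtain ⟨V, hxV, h⟩ := (range_val P x _).mp ⟨m, rfl⟩
  exact h x hxV

/-- Short exact sequences of sheaves of families. -/
theorem shortExact (hP : Good P) (hP'' : Good P'') (i : W'' →ₗ[X.functionField] W)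
    (φ : W →ₗ[X.functionField] W')
    (h1 : ∀ x, ∀ w ∈ P'' x, i w ∈ P x) (h2 : ∀ x, ∀ w ∈ P x, φ w ∈ P' x)
    (hinj : ∀ x, ∀ w ∈ P'' x, i w = 0 → w = 0) (h0 : ∀ x, ∀ w ∈ P'' x, φ (i w) = 0)
    (hex : ∀ x, ∀ w ∈ P x, φ w = 0 → ∃ w'' ∈ P'' x, i w'' = w)
    (hsurj : ∀ x, ∀ w' ∈ P' x, ∃ w ∈ P x, φ w = w') :
    ∃ S : ShortComplex X.Modules, S.ShortExact ∧ S.X₁ = mod P'' ∧ S.X₂ = mod P ∧ S.X₃ = mod P' := by
  have w : mor i h1 ≫ mor φ h2 = 0 := by
    apply hom_ext (inj_mod P')
    ext m
    apply val_injective P'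
    have e : RefHull.stalkMapₗ (mor i h1 ≫ mor φ h2) (η X) m = stalkLin (mor i h1 ≫ mor φ h2) (η X) m := by
      obtain ⟨U, hx, g, rfl⟩ := TopCat.Presheaf.exists_germ_eq (mod P'').presheaf m
      rw [RefHull.stalkMapₗ_germ, stalkLin_germ]
    have e' : RefHull.stalkMapₗ (0 : mod P'' ⟶ mod P') (η X) m = 0 := by
      obtain ⟨U, hx, g, rfl⟩ := TopCat.Presheaf.exists_germ_eq (mod P'').presheaf m
      rw [RefHull.stalkMapₗ_germ]
      exact map_zero _
    rw [e, e', stalkLin_comp, LinearMap.comp_apply, val_mor, val_mor, h0 _ _ (val_mem _ m), map_zero]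
  refine ⟨ShortComplex.mk _ _ w, VarietyB.ExactLoc.shortExact_of_stalk _ fun x => ⟨?_, ?_, ?_⟩, rfl, rfl, rfl⟩
  · rw [← LinearMap.ker_eq_bot, LinearMap.ker_eq_bot']
    intro m hm
    apply val_injective P''
    rw [map_zero]
    refine hinj x _ (val_mem _ m) ?_
    rw [← val_mor i h1, hm, map_zero]
  · intro m
    constructor
    · intro hm
      obtain ⟨w'', hw'', e⟩ := hex x _ (val_mem _ m) (by rw [← val_mor φ h2, hm, map_zero])
      obtain ⟨m'', rfl⟩ := exists_val hP'' x hw''
      refine ⟨m'', val_injective P x ?_⟩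
      rw [← e]
      exact val_mor i h1 x m''
    · rintro ⟨m'', rfl⟩
      apply val_injective P'
      refine (val_mor φ h2 x _).trans ?_
      rw [map_zero]
      refine (congrArg φ (val_mor i h1 x m'')).trans ?_
      exact h0 x _ (val_mem _ m'')
  · intro m'
    obtain ⟨w, hw, e⟩ := hsurj x _ (val_mem _ m')
    obtain ⟨m, rfl⟩ := exists_val hP x hw
    exact ⟨m, val_injective P' x ((val_mor φ h2 x m).trans e)⟩

/-! ### Images and kernels of nice families -/

/-- Generators near a point. -/
theorem exists_open_span_le {r r' : ℕ} (v : Fin r → W) (v' : Fin r' → W) (x : X)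
    (h : Submodule.span (X.presheaf.stalk x) (Set.range v') ≤ Submodule.span (X.presheaf.stalk x) (Set.range v)) :
    ∃ U : X.Opens, x ∈ U ∧ ∀ y ∈ U,
      Submodule.span (X.presheaf.stalk y) (Set.range v') ≤ Submodule.span (X.presheaf.stalk y) (Set.range v) := by
  choose U hxU hU using fun i => exists_open_mem_span v x (v' i) (h (Submodule.subset_span ⟨i, rfl⟩))
  have hmem : ∀ y : X, y ∈ (Finset.univ.inf U : X.Opens) ↔ ∀ i, y ∈ U i := by
    intro y
    change y ∈ ((Finset.univ.inf U : X.Opens) : Set X) ↔ _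
    rw [TopologicalSpace.Opens.coe_finset_inf]
    simp
  refine ⟨Finset.univ.inf U, (hmem x).mpr hxU, fun y hy => Submodule.span_le.mpr ?_⟩
  rintro _ ⟨i, rfl⟩
  exact hU i y ((hmem y).mp hy i)

theorem exists_open_span_eq {r r' : ℕ} (v : Fin r → W) (v' : Fin r' → W) (x : X)
    (h : Submodule.span (X.presheaf.stalk x) (Set.range v') = Submodule.span (X.presheaf.stalk x) (Set.range v)) :
    ∃ U : X.Opens, x ∈ U ∧ ∀ y ∈ U,
      Submodule.span (X.presheaf.stalk y) (Set.range v') = Submodule.span (X.presheaf.stalk y) (Set.range v) := by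
  obtain ⟨U, hU, h1⟩ := exists_open_span_le v v' x h.le
  obtain ⟨V, hV, h2⟩ := exists_open_span_le v' v x h.ge
  exact ⟨U ⊓ V, ⟨hU, hV⟩, fun y hy => le_antisymm (h1 y hy.1) (h2 y hy.2)⟩

/-- Linear independence over a local ring implies linear independence over the function field. -/
theorem linearIndependent_eta {r : ℕ} {v : Fin r → W} (x : X) (hv : LinearIndependent (X.presheaf.stalk x) v) :
    LinearIndependent X.functionField v :=
  (LinearIndependent.iff_fractionRing (X.presheaf.stalk x) X.functionField).mp hv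

theorem isTorsionFree (x : X) : IsTorsionFree (X.presheaf.stalk x) W :=
  .of_smul_eq_zero fun r w h => by
    rw [smul_eq x, smul_eq_zero] at h
    rcases h with h | h
    · exact .inl (algebraMap_injective x (h.trans (map_zero _).symm))
    · exact .inr h

/-- Finitely generated submodules over a principal local ring have bases. -/
theorem exists_basis (x : X) [IsPrincipalIdealRing (X.presheaf.stalk x)] (Q : Submodule (X.presheaf.stalk x) W)
    (hQ : Q.FG) : ∃ (r : ℕ) (v : Fin r → W), LinearIndependent X.functionField v ∧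
      Q = Submodule.span (X.presheaf.stalk x) (Set.range v) := by
  have h1 : Module.Finite (X.presheaf.stalk x) Q := Module.Finite.iff_fg.mpr hQ
  have h2 : IsTorsionFree (X.presheaf.stalk x) W := isTorsionFree x
  have h3 : IsTorsionFree (X.presheaf.stalk x) Q :=
    Function.Injective.moduleIsTorsionFree Q.subtype Q.injective_subtype fun _ _ => rfl
  obtain ⟨r, b⟩ := Module.basisOfFiniteTypeTorsionFree' (R := X.presheaf.stalk x) (M := Q)
  refine ⟨r, fun i => b i, linearIndependent_eta x ?_, ?_⟩
  · exact b.linearIndependent.map' Q.subtype (LinearMap.ker_eq_bot.mpr Q.injective_subtype)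
  · have h4 := congrArg (Submodule.map Q.subtype) b.span_eq
    rw [Submodule.map_span, Submodule.map_top, Submodule.range_subtype] at h4
    refine h4.symm.trans ?_
    rw [← Set.range_comp]
    rfl

/-- The rank of a family at the generic point. -/
def rk (P : ∀ x : X, Submodule (X.presheaf.stalk x) W) : ℕ :=
  finrank X.functionField (Submodule.span X.functionField (P (genericPoint X) : Set W))

theorem span_eta {r : ℕ} {v : Fin r → W} (y : X)
    (hP : P y = Submodule.span (X.presheaf.stalk y) (Set.range v)) :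
    Submodule.span X.functionField (P y : Set W) = Submodule.span X.functionField (Set.range v) := by
  apply le_antisymm
  · rw [Submodule.span_le]
    intro w hw
    rw [hP] at hw
    obtain ⟨c, rfl⟩ := (Submodule.mem_span_range_iff_exists_fun (X.presheaf.stalk y)).mp hw
    refine Submodule.sum_mem _ fun i _ => ?_
    rw [smul_eq y]
    exact Submodule.smul_mem _ _ (Submodule.subset_span ⟨i, rfl⟩)
  · apply Submodule.span_mono
    rintro _ ⟨i, rfl⟩
    rw [hP]
    exact Submodule.subset_span ⟨i, rfl⟩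

theorem rank_eq {r : ℕ} {U : X.Opens} {x : X} (hx : x ∈ U) {v : Fin r → W}
    (hv : LinearIndependent X.functionField v)
    (hP : ∀ y ∈ U, P y = Submodule.span (X.presheaf.stalk y) (Set.range v)) : r = rk P := by
  have hη : genericPoint X ∈ U := mem_of_nonempty hx
  rw [rk, span_eta _ (hP _ hη), finrank_span_eq_card hv, Fintype.card_fin]

theorem Nice_rank_eq {r : ℕ} (h : Nice P r) : r = rk P := by
  obtain ⟨U, hx, v, hv, hP⟩ := h (genericPoint X)
  exact rank_eq hx hv hP

variable {φ : W →ₗ[X.functionField] W'}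

/-- Bases of the image and of the kernel near a point. -/
theorem exists_map_ker (φ : W →ₗ[X.functionField] W') {r : ℕ} {U : X.Opens} {x : X}
    (hreg : IsPrincipalIdealRing (X.presheaf.stalk x)) (hx : x ∈ U) (v : Fin r → W)
    (hv : LinearIndependent X.functionField v)
    (hP : ∀ y ∈ U, P y = Submodule.span (X.presheaf.stalk y) (Set.range v)) :
    ∃ (V : X.Opens) (r' r'' : ℕ) (w' : Fin r' → W') (u : Fin r'' → W), x ∈ V ∧
      LinearIndependent X.functionField w' ∧ LinearIndependent X.functionField u ∧ r = r'' + r' ∧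
      ∀ y ∈ V, (P y).map (resL φ y) = Submodule.span (X.presheaf.stalk y) (Set.range w') ∧
        P y ⊓ LinearMap.ker (resL φ y) = Submodule.span (X.presheaf.stalk y) (Set.range u) := by
  have hfg : (P x).FG := by
    rw [hP x hx]
    exact Submodule.fg_span (Set.finite_range v)
  have : Module.Finite (X.presheaf.stalk x) (P x) := Module.Finite.iff_fg.mpr hfg
  have : IsNoetherian (X.presheaf.stalk x) (P x) := isNoetherian_of_isNoetherianRing_of_finite _ _
  obtain ⟨r', w', hw', e'⟩ := exists_basis x ((P x).map (resL φ x)) (hfg.map _)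
  have hfg' : (P x ⊓ LinearMap.ker (resL φ x)).FG := by
    have h1 : (P x ⊓ LinearMap.ker (resL φ x)) =
        ((LinearMap.ker (resL φ x)).comap (P x).subtype).map (P x).subtype := by
      rw [Submodule.map_comap_subtype]
    rw [h1]
    exact (IsNoetherian.noetherian _).map _
  obtain ⟨r'', u, hu, e''⟩ := exists_basis x (P x ⊓ LinearMap.ker (resL φ x)) hfg'
  have hlift : ∀ j, ∃ w ∈ P x, φ w = w' j := by
    intro j
    have h1 : w' j ∈ (P x).map (resL φ x) := by
      rw [e']
      exact Submodule.subset_span ⟨j, rfl⟩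
    obtain ⟨w, hw, h2⟩ := h1
    exact ⟨w, hw, h2⟩
  choose w hwP hw using hlift
  have hφu : ∀ i, φ (u i) = 0 := by
    intro i
    have h1 : u i ∈ P x ⊓ LinearMap.ker (resL φ x) := by
      rw [e'']
      exact Submodule.subset_span ⟨i, rfl⟩
    exact h1.2
  have huP : ∀ i, u i ∈ P x := by
    intro i
    have h1 : u i ∈ P x ⊓ LinearMap.ker (resL φ x) := by
      rw [e'']
      exact Submodule.subset_span ⟨i, rfl⟩
    exact h1.1
  let v' : Fin (r'' + r') → W := Sum.elim u w ∘ finSumFinEquiv.symm
  have hrange : Set.range v' = Set.range u ∪ Set.range w := by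
    rw [EquivLike.range_comp, Set.Sum.elim_range]
  -- membership in the span of `u` and `w`
  have hmem : ∀ (y : X) (z : W), z ∈ Submodule.span (X.presheaf.stalk y) (Set.range v') ↔
      ∃ (a : Fin r'' → X.presheaf.stalk y) (b : Fin r' → X.presheaf.stalk y),
        ∑ i, a i • u i + ∑ j, b j • w j = z := by
    intro y z
    rw [hrange, Submodule.span_union, Submodule.mem_sup]
    constructor
    · rintro ⟨z1, h1, z2, h2, rfl⟩
      obtain ⟨a, rfl⟩ := (Submodule.mem_span_range_iff_exists_fun _).mp h1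
      obtain ⟨b, rfl⟩ := (Submodule.mem_span_range_iff_exists_fun _).mp h2
      exact ⟨a, b, rfl⟩
    · rintro ⟨a, b, rfl⟩
      exact ⟨_, (Submodule.mem_span_range_iff_exists_fun _).mpr ⟨a, rfl⟩, _,
        (Submodule.mem_span_range_iff_exists_fun _).mpr ⟨b, rfl⟩, rfl⟩
  have hφ : ∀ (y : X) (a : Fin r'' → X.presheaf.stalk y) (b : Fin r' → X.presheaf.stalk y),
      φ (∑ i, a i • u i + ∑ j, b j • w j) = ∑ j, b j • w' j := by
    intro y a b
    rw [map_add, map_sum, map_sum]
    have h1 : ∑ i, φ (a i • u i) = 0 := Finset.sum_eq_zero fun i _ => by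
      rw [map_smul_stalk, hφu, smul_zero]
    rw [h1, zero_add]
    exact Finset.sum_congr rfl fun j _ => by rw [map_smul_stalk, hw]
  have hspan : Submodule.span (X.presheaf.stalk x) (Set.range v') =
      Submodule.span (X.presheaf.stalk x) (Set.range v) := by
    rw [← hP x hx]
    apply le_antisymm
    · rw [Submodule.span_le, hrange]
      rintro _ (⟨i, rfl⟩ | ⟨j, rfl⟩)
      · exact huP i
      · exact hwP j
    · intro z hz
      have h1 : φ z ∈ (P x).map (resL φ x) := ⟨z, hz, rfl⟩
      rw [e', Submodule.mem_span_range_iff_exists_fun] at h1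
      obtain ⟨b, hb⟩ := h1
      have h2 : z - ∑ j, b j • w j ∈ P x ⊓ LinearMap.ker (resL φ x) := by
        refine ⟨(P x).sub_mem hz (Submodule.sum_mem _ fun j _ => (P x).smul_mem _ (hwP j)), ?_⟩
        change φ _ = 0
        rw [map_sub, ← hb, map_sum]
        have h3 : ∑ j, φ (b j • w j) = ∑ j, b j • w' j := Finset.sum_congr rfl fun j _ => by
          rw [map_smul_stalk, hw]
        rw [h3, sub_self]
      rw [e'', Submodule.mem_span_range_iff_exists_fun] at h2
      obtain ⟨a, ha⟩ := h2
      rw [hmem]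
      exact ⟨a, b, by rw [ha, sub_add_cancel]⟩
  obtain ⟨V, hxV, hV⟩ := exists_open_span_eq v v' x hspan
  have hv' : LinearIndependent X.functionField v' := by
    apply linearIndependent_eta x
    have h1 : LinearIndependent (X.presheaf.stalk x) (Sum.elim u w) := by
      rw [Fintype.linearIndependent_iff]
      intro g hg
      rw [Fintype.sum_sum_type] at hg
      simp only [Sum.elim_inl, Sum.elim_inr] at hg
      have h2 := congrArg φ hg
      rw [hφ, map_zero] at h2
      have h3 := Fintype.linearIndependent_iff.mp (linearIndependent_stalk hw' x) _ h2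
      simp only [h3, zero_smul, Finset.sum_const_zero, add_zero] at hg
      have h4 := Fintype.linearIndependent_iff.mp (linearIndependent_stalk hu x) _ hg
      rintro (i | j)
      · exact h4 i
      · exact h3 j
    exact h1.comp _ finSumFinEquiv.symm.injective
  refine ⟨V ⊓ U, r', r'', w', u, ⟨hxV, hx⟩, hw', hu, ?_, fun y hy => ⟨?_, ?_⟩⟩
  · rw [rank_eq hx hv hP]
    symm
    apply rank_eq (P := P) (U := V ⊓ U) ⟨hxV, hx⟩ hv'
    intro y hy
    rw [hP y hy.2, hV y hy.1]
  · rw [hP y hy.2, ← hV y hy.1]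
    ext z
    rw [Submodule.mem_span_range_iff_exists_fun]
    constructor
    · rintro ⟨z', hz', rfl⟩
      obtain ⟨a, b, rfl⟩ := (hmem y z').mp hz'
      exact ⟨b, (hφ y a b).symm⟩
    · rintro ⟨b, rfl⟩
      refine ⟨∑ i, (0 : Fin r'' → X.presheaf.stalk y) i • u i + ∑ j, b j • w j, (hmem y _).mpr ⟨_, _, rfl⟩, ?_⟩
      exact hφ y _ b
  · rw [hP y hy.2, ← hV y hy.1]
    ext z
    rw [Submodule.mem_span_range_iff_exists_fun]
    constructor
    · rintro ⟨hz, hz0⟩
      obtain ⟨a, b, rfl⟩ := (hmem y z).mp hz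
      have h1 : ∑ j, b j • w' j = 0 := by
        rw [← hφ y a b]
        exact hz0
      have h3 := Fintype.linearIndependent_iff.mp (linearIndependent_stalk hw' y) _ h1
      exact ⟨a, by simp only [h3, zero_smul, Finset.sum_const_zero, add_zero]⟩
    · rintro ⟨a, rfl⟩
      refine ⟨(hmem y _).mpr ⟨a, 0, by simp⟩, ?_⟩
      change φ _ = 0
      rw [map_sum]
      exact Finset.sum_eq_zero fun i _ => by rw [map_smul_stalk, hφu, smul_zero]

variable (P) in
/-- The family of images. -/
def mapF (φ : W →ₗ[X.functionField] W') : ∀ x : X, Submodule (X.presheaf.stalk x) W' :=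
  fun x => (P x).map (resL φ x)

variable (P) in
/-- The family of kernels. -/
def kerF (φ : W →ₗ[X.functionField] W') : ∀ x : X, Submodule (X.presheaf.stalk x) W :=
  fun x => P x ⊓ LinearMap.ker (resL φ x)

/-- Images and kernels of nice families are nice. -/
theorem nice_map_ker (hreg : ∀ x : X, IsPrincipalIdealRing (X.presheaf.stalk x)) {r : ℕ} (hP : Nice P r)
    (φ : W →ₗ[X.functionField] W') : ∃ r' r'' : ℕ, r = r'' + r' ∧ Nice (mapF P φ) r' ∧ Nice (kerF P φ) r'' := by
  have key : ∀ x : X, ∃ (V : X.Opens) (w' : Fin (rk (mapF P φ)) → W') (u : Fin (rk (kerF P φ)) → W), x ∈ V ∧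
      LinearIndependent X.functionField w' ∧ LinearIndependent X.functionField u ∧
      r = rk (kerF P φ) + rk (mapF P φ) ∧
      ∀ y ∈ V, mapF P φ y = Submodule.span (X.presheaf.stalk y) (Set.range w') ∧
        kerF P φ y = Submodule.span (X.presheaf.stalk y) (Set.range u) := by
    intro x
    obtain ⟨U, hx, v, hv, hPv⟩ := hP x
    obtain ⟨V, r', r'', w', u, hxV, hw', hu, hr, hV⟩ := exists_map_ker φ (hreg x) hx v hv hPv
    obtain rfl : r' = rk (mapF P φ) := rank_eq (P := mapF P φ) hxV hw' fun y hy => (hV y hy).1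
    obtain rfl : r'' = rk (kerF P φ) := rank_eq (P := kerF P φ) hxV hu fun y hy => (hV y hy).2
    exact ⟨V, w', u, hxV, hw', hu, hr, hV⟩
  refine ⟨rk (mapF P φ), rk (kerF P φ), ?_, fun x => ?_, fun x => ?_⟩
  · obtain ⟨-, -, -, -, -, -, h, -⟩ := key (genericPoint X)
    exact h
  · obtain ⟨V, w', u, hxV, hw', hu, hr, hV⟩ := key x
    exact ⟨V, hxV, w', hw', fun y hy => (hV y hy).1⟩
  · obtain ⟨V, w', u, hxV, hw', hu, hr, hV⟩ := key x
    exact ⟨V, hxV, u, hu, fun y hy => (hV y hy).2⟩

/-- The short exact sequence of the kernel and the image. -/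
theorem shortExact_ker_map (hreg : ∀ x : X, IsPrincipalIdealRing (X.presheaf.stalk x)) {r : ℕ} (hP : Nice P r)
    (φ : W →ₗ[X.functionField] W') :
    ∃ S : ShortComplex X.Modules, S.ShortExact ∧ S.X₁ = mod (kerF P φ) ∧ S.X₂ = mod P ∧ S.X₃ = mod (mapF P φ) := by
  obtain ⟨r', r'', -, h1, h2⟩ := nice_map_ker hreg hP φ
  exact shortExact hP.good h2.good LinearMap.id φ (fun x w hw => hw.1) (fun x w hw => ⟨w, hw, rfl⟩)
    (fun x w _ h => h) (fun x w hw => hw.2) (fun x w hw h => ⟨w, ⟨hw, h⟩, rfl⟩)
    (fun x w' ⟨w, hw, h⟩ => ⟨w, hw, h⟩)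

end K756.LatSeq

end
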