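import Groth.Agent.Curves.K756.DimBound
import Groth.Agent.Curves.K667.MoriFin
import Groth.Agent.Curves.K43.MoriZero

/-!
# Rational curves of bounded degree through the points of a curve of negative canonical degree (Mori)

Everything except bend and break with fixed points and degree bound (the hypothesis `K667.MoriAsm.P510`).
-/

set_option autoImplicit false
universe u
open CategoryTheory CategoryTheory.Limits AlgebraicGeometry

namespace K756.Mori503

/-- positive characteristic -/
theorem pos (H10 : ∀ (k : Type u) [Field k] [IsAlgClosed k], K667.MoriAsm.P510.{u} k)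
    (p : ℕ) [Fact p.Prime] (k : Type u) [Field k] [IsAlgClosed k] [CharP k p] : K43.MoriZero.Stmt k :=
  fun X _ _ N ι _ hι n hn C _ hC f hf U hU hUs hK c hc =>
    K667.MoriAsm.s16503_of_dimBound_of_p510 k p (K756.DimBound.dimBound k) (H10 k) X N ι hι n hn C hC f hf U hU hUs
      hK c hc

/-- all characteristics -/
theorem all (H10 : ∀ (k : Type u) [Field k] [IsAlgClosed k], K667.MoriAsm.P510.{u} k)
    (k : Type u) [Field k] [IsAlgClosed k] : K43.MoriZero.Stmt k := by
  obtain ⟨p, hp⟩ := CharP.exists k
  rcases CharP.char_is_prime_or_zero k p with h | h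
  · have : Fact p.Prime := ⟨h⟩
    exact pos H10 p k
  · subst h
    have : CharZero k := CharP.charP_to_charZero k
    exact K43.MoriZero.main (fun p _ k _ _ _ => pos H10 p k) k

end K756.Mori503
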