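import Mathlib.AlgebraicGeometry.Morphisms.Proper

/-!
# An open subset containing a fibre of a proper projection contains a tube
-/

set_option autoImplicit false
universe u
open CategoryTheory CategoryTheory.Limits AlgebraicGeometry TopologicalSpace

namespace K756.OpenLoc

theorem exists_away {C S : Scheme.{u}} (sC : C ⟶ S) [UniversallyClosed sC] (A : CommRingCat.{u})
    (a : Spec A ⟶ S) (x : Spec A) (U : (pullback sC a).Opens)
    (hU : ∀ y : ↥(pullback sC a), pullback.snd sC a y = x → y ∈ U) :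
    ∃ h : A, h ∉ x.asIdeal ∧ ∀ y : ↥(pullback sC a), h ∉ (pullback.snd sC a y).asIdeal → y ∈ U := by
  have h1 : IsClosed (pullback.snd sC a '' (U : Set ↥(pullback sC a))ᶜ) :=
    (pullback.snd sC a).isClosedMap _ U.2.isClosed_compl
  have h2 : x ∈ (pullback.snd sC a '' (U : Set ↥(pullback sC a))ᶜ)ᶜ := by
    rintro ⟨y, hy, hyx⟩
    exact hy (hU y hyx)
  obtain ⟨_, ⟨h, rfl⟩, hx, hh⟩ := PrimeSpectrum.isTopologicalBasis_basic_opens.exists_subset_of_mem_open h2
    h1.isOpen_compl
  refine ⟨h, hx, fun y hy => ?_⟩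
  by_contra hyU
  exact hh (show pullback.snd sC a y ∈ _ from hy) ⟨y, hyU, rfl⟩

end K756.OpenLoc
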