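import Groth.Agent.S9153
import Groth.Agent.S0209
import Groth.Agent.Synt.K563.DimLoc
import Mathlib.RingTheory.Ideal.KrullsHeightTheorem
import Mathlib.RingTheory.Nakayama
import Mathlib.LinearAlgebra.Dual.Lemmas

/-!
# Few equations at a point give a curve through the point

* `exists_prime_dim_one`: an ideal `I` of `k[t_1..t_M]` generated modulo `𝔪 I` by fewer than `M` elements is contained in
  a prime `𝔮 < 𝔪` of dimension one;
* `exists_generators`: if the dual of `I / 𝔪 I` injects into an `h`-dimensional space then `I` is generated modulo `𝔪 I` by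
  `h` elements.
-/

set_option autoImplicit false
universe u

namespace K756.ParKrull

open scoped Pointwise

theorem exists_prime {R : Type u} [CommRing R] [IsNoetherianRing R] (𝔪 : Ideal R) [𝔪.IsPrime] (I : Ideal R)
    (hI : I ≤ 𝔪) (t : Finset R) (ht : ∀ x ∈ t, x ∈ I) (hN : I ≤ Ideal.span (t : Set R) ⊔ 𝔪 * I) :
    ∃ 𝔮 : Ideal R, 𝔮.IsPrime ∧ I ≤ 𝔮 ∧ 𝔮 ≤ 𝔪 ∧ 𝔮.height ≤ t.card := by
  have h1 : Ideal.span (t : Set R) ≤ 𝔪 := (Ideal.span_le.2 fun x hx => ht x hx).trans hI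
  obtain ⟨𝔮, h𝔮, hle⟩ := Ideal.exists_minimalPrimes_le h1
  have hp : 𝔮.IsPrime := h𝔮.1.1
  refine ⟨𝔮, hp, ?_, hle, Ideal.height_le_card_of_mem_minimalPrimes_span_finset h𝔮⟩
  obtain ⟨r, hr, hrI⟩ := Submodule.exists_sub_one_mem_and_smul_le_of_fg_of_le_sup (I := 𝔪)
    (N := Ideal.span (t : Set R)) (N' := I) (P := I) (IsNoetherian.noetherian I) le_rfl hN
  have hr' : r ∉ 𝔮 := fun h => by
    have h2 : (1 : R) ∈ 𝔪 := by
      have := 𝔪.sub_mem (hle h) hr
      simpa using this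
    exact (‹𝔪.IsPrime›.ne_top) ((Ideal.eq_top_iff_one 𝔪).2 h2)
  intro x hx
  have h3 : r • x ∈ Ideal.span (t : Set R) := hrI (Submodule.smul_mem_pointwise_smul x r I hx)
  exact (hp.mem_or_mem (h𝔮.1.2 h3)).resolve_left hr'

theorem exists_prime_dim_one {k : Type u} [Field k] {M : ℕ} (𝔪 : Ideal (MvPolynomial (Fin M) k)) [𝔪.IsMaximal]
    (I : Ideal (MvPolynomial (Fin M) k)) (hI : I ≤ 𝔪) (t : Finset (MvPolynomial (Fin M) k)) (ht : ∀ x ∈ t, x ∈ I)
    (hN : I ≤ Ideal.span (t : Set (MvPolynomial (Fin M) k)) ⊔ 𝔪 * I) (hM : t.card < M) :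
    ∃ 𝔮 : Ideal (MvPolynomial (Fin M) k), 𝔮.IsPrime ∧ I ≤ 𝔮 ∧ 𝔮 < 𝔪 ∧
      ringKrullDim (MvPolynomial (Fin M) k ⧸ 𝔮) = 1 := by
  obtain ⟨𝔮₀, hp₀, hI₀, hle₀, hht₀⟩ := exists_prime 𝔪 I hI t ht hN
  have h𝔪 : 𝔪.height = M := Groth.Agent.S0209.height_eq_of_isMaximal k M 𝔪
  have hne : 𝔮₀ ≠ 𝔪 := by
    rintro rfl
    rw [h𝔪] at hht₀
    exact absurd (Nat.cast_le.1 hht₀) (by omega)
  let A : Set (PrimeSpectrum (MvPolynomial (Fin M) k)) := {p | 𝔮₀ ≤ p.asIdeal ∧ p.asIdeal < 𝔪}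
  have hA : A.Nonempty := ⟨⟨𝔮₀, hp₀⟩, le_rfl, lt_of_le_of_ne hle₀ hne⟩
  have hwf : WellFoundedGT (Ideal (MvPolynomial (Fin M) k)) := inferInstance
  obtain ⟨p, hpA, hmax⟩ : ∃ p ∈ A, ∀ q ∈ A, ¬ p.asIdeal < q.asIdeal := by
    have hwf' : WellFounded fun p q : PrimeSpectrum (MvPolynomial (Fin M) k) => q.asIdeal < p.asIdeal :=
      InvImage.wf (fun p : PrimeSpectrum (MvPolynomial (Fin M) k) => p.asIdeal) hwf.wf
    exact ⟨hwf'.min A hA, hwf'.min_mem A hA, fun q hq => hwf'.not_lt_min A hq⟩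
  have hcov : p ⋖ (⟨𝔪, inferInstance⟩ : PrimeSpectrum (MvPolynomial (Fin M) k)) := by
    refine ⟨hpA.2, fun q hpq hq => hmax q ⟨hpA.1.trans hpq.le, hq⟩ hpq⟩
  let s₀ : LTSeries (PrimeSpectrum (MvPolynomial (Fin M) k)) := RelSeries.singleton _ p
  let s : LTSeries (PrimeSpectrum (MvPolynomial (Fin M) k)) := s₀.snoc ⟨𝔪, inferInstance⟩ hcov.lt
  have hlen : s.length = 1 := rfl
  have hhead : s.head = p := RelSeries.head_snoc _ _ _
  have hlast : s.last = ⟨𝔪, inferInstance⟩ := RelSeries.last_snoc _ _ _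
  have hsat : ∀ i : Fin s.length, s (Fin.castSucc i) ⋖ s (Fin.succ i) := by
    intro i
    have h0 : (Fin.castSucc i) = (0 : Fin (s.length + 1)) := by
      apply Fin.ext
      have := i.2
      change (i : ℕ) = 0
      omega
    have h1 : Fin.succ i = Fin.last s.length := by
      apply Fin.ext
      have := i.2
      change (i : ℕ) + 1 = s.length
      omega
    rw [h0, h1]
    change s.head ⋖ s.last
    rw [hhead, hlast]
    exact hcov
  have h2 := Groth.Agent.S9153.result k M s hsat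
  rw [hlen, hhead, hlast] at h2
  change ((1 : ℕ) : ℕ∞) + p.asIdeal.height = 𝔪.height at h2
  rw [h𝔪] at h2
  have h3 := K563.DimLoc.height_add_dim (k := k) M p.asIdeal
  refine ⟨p.asIdeal, p.2, hI₀.trans hpA.1, hpA.2, ?_⟩
  obtain ⟨c, hc⟩ : ∃ c : ℕ, p.asIdeal.height = c := by
    refine ENat.ne_top_iff_exists.1 (fun h => ?_) |>.imp fun _ h => h.symm
    rw [h] at h2
    simp at h2
  rw [hc] at h2 h3
  have h4 : 1 + c = M := by exact_mod_cast h2
  generalize ringKrullDim (MvPolynomial (Fin M) k ⧸ p.asIdeal) = d at h3 ⊢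
  induction d using WithBot.recBotCoe with
  | bot =>
    rw [WithBot.add_bot] at h3
    exact absurd h3 (by simp)
  | coe d =>
    have h5 : (c : ℕ∞) + d = (M : ℕ) := by exact_mod_cast h3
    induction d using ENat.recTopCoe with
    | top => simp at h5
    | coe d =>
      have h6 : c + d = M := by exact_mod_cast h5
      have h7 : d = 1 := by omega
      subst h7
      rfl

section Gen

variable {k R : Type u} [Field k] [CommRing R] [Algebra k R] [IsNoetherianRing R] (𝔪 I : Ideal R)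

/-- `I / 𝔪 I`. -/
abbrev W : Type u := ↥I ⧸ (𝔪 • ⊤ : Submodule R ↥I)

variable {𝔪 I}

omit [IsNoetherianRing R] in
theorem smul_W {r : R} {c : k} (h : r - algebraMap k R c ∈ 𝔪) (w : W 𝔪 I) : r • w = c • w := by
  obtain ⟨x, rfl⟩ := Submodule.Quotient.mk_surjective _ w
  rw [← Submodule.Quotient.mk_smul, ← Submodule.Quotient.mk_smul, Submodule.Quotient.eq]
  have h1 : r • x - c • x = (r - algebraMap k R c) • x := by
    rw [sub_smul, algebraMap_smul]
  rw [h1]
  exact Submodule.smul_mem_smul h trivial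

theorem exists_generators (h𝔪 : ∀ r : R, ∃ c : k, r - algebraMap k R c ∈ 𝔪)
    {V : Type*} [AddCommGroup V] [Module k V] [FiniteDimensional k V]
    (Ψ : Module.Dual k (W 𝔪 I) →ₗ[k] V) (hΨ : Function.Injective Ψ) :
    ∃ t : Finset R, (∀ x ∈ t, x ∈ I) ∧ I ≤ Ideal.span (t : Set R) ⊔ 𝔪 * I ∧ t.card ≤ Module.finrank k V := by
  classical
  have hfin : Module.Finite k (W 𝔪 I) := by
    have h0 : Module.Finite R (W 𝔪 I) := inferInstance
    obtain ⟨S, hS⟩ := h0.fg_top
    refine ⟨⟨S, ?_⟩⟩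
    rw [eq_top_iff]
    intro w _
    have hw : w ∈ Submodule.span R (S : Set (W 𝔪 I)) := by rw [hS]; trivial
    induction hw using Submodule.span_induction with
    | mem x hx => exact Submodule.subset_span hx
    | zero => exact Submodule.zero_mem _
    | add x y _ _ hx hy => exact Submodule.add_mem _ (hx trivial) (hy trivial)
    | smul a x _ hx =>
      obtain ⟨c, hc⟩ := h𝔪 a
      rw [smul_W hc]
      exact Submodule.smul_mem _ _ (hx trivial)
  have hle : Module.finrank k (W 𝔪 I) ≤ Module.finrank k V := by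
    rw [← Subspace.dual_finrank_eq (K := k) (V := W 𝔪 I)]
    exact LinearMap.finrank_le_finrank_of_injective hΨ
  let b := Module.finBasis k (W 𝔪 I)
  choose g hg using fun i => Submodule.Quotient.mk_surjective (𝔪 • ⊤ : Submodule R ↥I) (b i)
  refine ⟨Finset.univ.image fun i => (g i : R), ?_, ?_, ?_⟩
  · intro x hx
    obtain ⟨i, _, rfl⟩ := Finset.mem_image.1 hx
    exact (g i).2
  · intro x hx
    have h1 := b.sum_repr (Submodule.Quotient.mk ⟨x, hx⟩ : W 𝔪 I)
    have h2 : (Submodule.Quotient.mk ⟨x, hx⟩ : W 𝔪 I) = Submodule.Quotient.mk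
        (∑ i, (b.repr (Submodule.Quotient.mk ⟨x, hx⟩ : W 𝔪 I) i) • g i) := by
      rw [← h1]
      conv_rhs => rw [← Submodule.mkQ_apply, map_sum]
      refine Finset.sum_congr rfl fun i _ => ?_
      rw [h1, ← hg i, Submodule.mkQ_apply, Submodule.Quotient.mk_smul]
    rw [Submodule.Quotient.eq] at h2
    have h3 : (x - ((∑ i, (b.repr (Submodule.Quotient.mk ⟨x, hx⟩ : W 𝔪 I) i) • g i : ↥I) : R)) ∈ 𝔪 * I := by
      have h4 := Submodule.mem_map_of_mem (f := I.subtype) h2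
      rw [Submodule.map_smul'', Submodule.map_top, Submodule.range_subtype] at h4
      exact h4
    have h5 : ((∑ i, (b.repr (Submodule.Quotient.mk ⟨x, hx⟩ : W 𝔪 I) i) • g i : ↥I) : R) ∈
        Ideal.span ((Finset.univ.image fun i => (g i : R) : Finset R) : Set R) := by
      rw [Submodule.coe_sum]
      refine Ideal.sum_mem _ fun i _ => ?_
      rw [Submodule.coe_smul_of_tower, Algebra.smul_def]
      exact Ideal.mul_mem_left _ _ (Ideal.subset_span (by simp))
    have h6 := Submodule.add_mem_sup h5 h3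
    rwa [add_sub_cancel] at h6
  · refine Finset.card_image_le.trans ?_
    rw [Finset.card_univ, Fintype.card_fin]
    exact hle

end Gen

end K756.ParKrull
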