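import Groth.Agent.Curves.K756.LocLift
import Groth.Agent.Curves.K756.ParKrull
import Mathlib.LinearAlgebra.TensorProduct.RightExactness
import Mathlib.RingTheory.Flat.Basic

/-!
# The equations satisfied by a family of tuples

`S` a tuple in `K ⊗ R`, `J` an ideal of `k[x_0..x_N]`: `eqI J S` is the ideal of `R` generated by the `K`-coefficients of
the `G(S)`, `G ∈ J`.  The functionals `nuL` on `J` given by the dual of `eqI / 𝔪 eqI`.
-/

set_option autoImplicit false
universe u

open MvPolynomial TensorProduct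

namespace K756.TupFun

open K756.ParKrull

section Ext

variable {k : Type u} [Field k] {R : Type u} [CommRing R] [Algebra k R]

/-- Extension of a functional on `R` to `B ⊗ R`. -/
noncomputable def ext (B : Type u) [CommRing B] [Algebra k B] (θ : R →ₗ[k] k) : B ⊗[k] R →ₗ[k] B :=
  (TensorProduct.rid k B).toLinearMap ∘ₗ LinearMap.lTensor B θ

variable {B B' : Type u} [CommRing B] [Algebra k B] [CommRing B'] [Algebra k B']

@[simp] theorem ext_tmul (θ : R →ₗ[k] k) (b : B) (r : R) : ext B θ (b ⊗ₜ r) = θ r • b := by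
  simp [ext]

theorem ext_add_left (θ θ' : R →ₗ[k] k) (w : B ⊗[k] R) : ext B (θ + θ') w = ext B θ w + ext B θ' w := by
  induction w with
  | zero => simp
  | tmul b r => simp [add_smul]
  | add x y hx hy => rw [map_add, map_add, map_add, hx, hy]; abel

theorem ext_smul_left (c : k) (θ : R →ₗ[k] k) (w : B ⊗[k] R) : ext B (c • θ) w = c • ext B θ w := by
  induction w with
  | zero => simp
  | tmul b r => simp [mul_smul]
  | add x y hx hy => rw [map_add, map_add, hx, hy, smul_add]

theorem ext_map (g : B →ₐ[k] B') (θ : R →ₗ[k] k) (w : B ⊗[k] R) :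
    ext B' θ (Algebra.TensorProduct.map g (AlgHom.id k R) w) = g (ext B θ w) := by
  induction w with
  | zero => simp
  | tmul b r => simp
  | add x y hx hy => rw [map_add, map_add, map_add, map_add, hx, hy]

theorem ext_mul_left (θ : R →ₗ[k] k) (b : B) (w : B ⊗[k] R) :
    ext B θ ((b ⊗ₜ (1 : R)) * w) = b * ext B θ w := by
  induction w with
  | zero => simp
  | tmul c r => simp
  | add x y hx hy => rw [mul_add, map_add, map_add, mul_add, hx, hy]

/-- Evaluation of the parameter. -/
noncomputable def evB (B : Type u) [CommRing B] [Algebra k B] (ε : R →ₐ[k] k) : B ⊗[k] R →ₐ[k] B :=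
  Algebra.TensorProduct.lift (AlgHom.id k B) ((Algebra.ofId k B).comp ε) fun _ _ => mul_comm _ _

@[simp] theorem evB_tmul (ε : R →ₐ[k] k) (b : B) (r : R) : evB B ε (b ⊗ₜ r) = b * algebraMap k B (ε r) := rfl

theorem ext_mul_of_mem (ε : R →ₐ[k] k) (I : Ideal R) (θ : R →ₗ[k] k)
    (hθ : ∀ r, ∀ x ∈ I, θ (r * x) = ε r * θ x) (u : B ⊗[k] R) (w : B ⊗[k] R)
    (hw : w ∈ LinearMap.range (LinearMap.lTensor B (I.restrictScalars k).subtype)) :
    ext B θ (u * w) = evB B ε u * ext B θ w := by
  obtain ⟨w, rfl⟩ := hw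
  induction w with
  | zero => simp
  | add x y hx hy => rw [map_add, mul_add, map_add, map_add, mul_add, hx, hy]
  | tmul c x =>
    rw [LinearMap.lTensor_tmul]
    induction u with
    | zero => simp
    | add x y hx hy => rw [add_mul, map_add, map_add, add_mul, hx, hy]
    | tmul b r =>
      rw [Algebra.TensorProduct.tmul_mul_tmul, ext_tmul, ext_tmul, evB_tmul]
      have h1 : (I.restrictScalars k).subtype x = (x : R) := rfl
      rw [h1, hθ r x.1 x.2, Algebra.smul_def, Algebra.smul_def, map_mul]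
      ring

end Ext

section Con

variable {k : Type u} [Field k] {R : Type u} [CommRing R] [Algebra k R] {K : Type u} [CommRing K] [Algebra k K]

/-- Contraction with a functional on `K`. -/
noncomputable def con (lam : K →ₗ[k] k) : K ⊗[k] R →ₗ[k] R :=
  (TensorProduct.lid k R).toLinearMap ∘ₗ LinearMap.rTensor R lam

@[simp] theorem con_tmul (lam : K →ₗ[k] k) (a : K) (r : R) : con lam (a ⊗ₜ r) = lam a • r := by
  simp [con]

theorem con_ext (lam : K →ₗ[k] k) (θ : R →ₗ[k] k) (w : K ⊗[k] R) : lam (ext K θ w) = θ (con lam w) := by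
  induction w with
  | zero => simp
  | tmul b r => simp [mul_comm]
  | add x y hx hy => rw [map_add, map_add, map_add, map_add, hx, hy]

theorem con_ev (lam : K →ₗ[k] k) (ε : R →ₐ[k] k) (w : K ⊗[k] R) : ε (con lam w) = lam (evB K ε w) := by
  induction w with
  | zero => simp
  | tmul b r =>
    rw [con_tmul, evB_tmul, map_smul, mul_comm, ← Algebra.smul_def, map_smul, smul_eq_mul, smul_eq_mul, mul_comm]
  | add x y hx hy => rw [map_add, map_add, map_add, map_add, hx, hy]

/-- Functionals on `K` separate the elements of `K ⊗ V`. -/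
theorem eq_zero_of_con {V : Type u} [AddCommGroup V] [Module k V] (w : K ⊗[k] V)
    (h : ∀ lam : K →ₗ[k] k, (TensorProduct.lid k V) (LinearMap.rTensor V lam w) = 0) : w = 0 := by
  classical
  let b := Module.Basis.ofVectorSpace k K
  let e : K ⊗[k] V ≃ₗ[k] ((Module.Basis.ofVectorSpaceIndex k K) →₀ V) :=
    (TensorProduct.congr b.repr (LinearEquiv.refl k V)) ≪≫ₗ TensorProduct.finsuppScalarLeft k V _
  apply e.injective
  rw [map_zero]
  ext i
  rw [Finsupp.zero_apply, ← h (b.coord i)]
  clear h
  induction w with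
  | zero => simp
  | tmul a r =>
    simp only [e, LinearEquiv.trans_apply, TensorProduct.congr_tmul, LinearEquiv.refl_apply,
      TensorProduct.finsuppScalarLeft_apply_tmul_apply, LinearMap.rTensor_tmul, TensorProduct.lid_tmul,
      Module.Basis.coord_apply]
  | add x y hx hy => rw [map_add, Finsupp.add_apply, map_add, map_add, hx, hy]

theorem mem_range_of_con (I : Ideal R) (w : K ⊗[k] R) (h : ∀ lam : K →ₗ[k] k, con lam w ∈ I) :
    w ∈ LinearMap.range (LinearMap.lTensor K (I.restrictScalars k).subtype) := by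
  let p : R →ₗ[k] (R ⧸ I.restrictScalars k) := (I.restrictScalars k).mkQ
  have hex : Function.Exact (I.restrictScalars k).subtype p := LinearMap.exact_subtype_mkQ _
  have h1 := lTensor_exact K hex (Submodule.mkQ_surjective _)
  rw [← LinearMap.exact_iff.1 h1, LinearMap.mem_ker]
  apply eq_zero_of_con
  intro lam
  have h2 : (TensorProduct.lid k (R ⧸ I.restrictScalars k)) (LinearMap.rTensor _ lam (LinearMap.lTensor K p w)) =
      p (con lam w) := by
    clear h
    induction w with
    | zero => simp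
    | tmul a r => simp
    | add x y hx hy => rw [map_add, map_add, map_add, map_add, map_add, hx, hy]
  rw [h2]
  exact (Submodule.Quotient.mk_eq_zero _).2 (h lam)

end Con

section Main

variable {k : Type u} [Field k] {R : Type u} [CommRing R] [Algebra k R] {K : Type u} [CommRing K] [Algebra k K]
  {σ : Type} (J : Ideal (MvPolynomial σ k)) (S : σ → K ⊗[k] R)

/-- The ideal of the equations `G(S) = 0`, `G ∈ J`. -/
def eqI : Ideal R := Ideal.span {x | ∃ G ∈ J, ∃ lam : K →ₗ[k] k, x = con lam (aeval S G)}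

theorem con_mem {G : MvPolynomial σ k} (hG : G ∈ J) (lam : K →ₗ[k] k) : con lam (aeval S G) ∈ eqI J S :=
  Ideal.subset_span ⟨G, hG, lam, rfl⟩

theorem aeval_mem_range {G : MvPolynomial σ k} (hG : G ∈ J) :
    aeval S G ∈ LinearMap.range (LinearMap.lTensor K ((eqI J S).restrictScalars k).subtype) :=
  mem_range_of_con _ _ fun lam => con_mem J S hG lam

/-- Modulo an ideal containing `eqI` the equations hold. -/
theorem aeval_eq_zero {A : Type u} [CommRing A] [Algebra k A] (q : R →ₐ[k] A) (hq : ∀ x ∈ eqI J S, q x = 0)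
    {G : MvPolynomial σ k} (hG : G ∈ J) :
    aeval (fun l => Algebra.TensorProduct.map (AlgHom.id k K) q (S l)) G = 0 := by
  have h1 : aeval (fun l => Algebra.TensorProduct.map (AlgHom.id k K) q (S l)) G =
      Algebra.TensorProduct.map (AlgHom.id k K) q (aeval S G) := by
    rw [← AlgHom.comp_apply, MvPolynomial.comp_aeval]
  rw [h1]
  obtain ⟨w, hw⟩ := aeval_mem_range J S hG
  rw [← hw]
  clear hw h1
  induction w with
  | zero => simp
  | tmul a r =>
    rw [LinearMap.lTensor_tmul, Algebra.TensorProduct.map_tmul]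
    have : q (((eqI J S).restrictScalars k).subtype r) = 0 := hq _ r.2
    rw [this, tmul_zero]
  | add x y hx hy => rw [map_add, map_add, hx, hy, add_zero]

variable (ε : R →ₐ[k] k)

/-- The value of the tuple at the point `ε`. -/
noncomputable def val (l : σ) : K := evB K ε (S l)

theorem evB_aeval (H : MvPolynomial σ k) : evB K ε (aeval S H) = aeval (val S ε) H := by
  rw [← AlgHom.comp_apply, MvPolynomial.comp_aeval]
  rfl

theorem eqI_le (h : ∀ G ∈ J, aeval (val S ε) G = 0) : eqI J S ≤ RingHom.ker ε := by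
  rw [eqI, Ideal.span_le]
  rintro _ ⟨G, hG, lam, rfl⟩
  rw [SetLike.mem_coe, RingHom.mem_ker, con_ev, evB_aeval, h G hG, map_zero]

theorem sub_mem_ker (r : R) : r - algebraMap k R (ε r) ∈ RingHom.ker ε := by
  rw [RingHom.mem_ker, map_sub, AlgHom.commutes, Algebra.algebraMap_self_apply, sub_self]

/-- A `k`-linear retraction onto an ideal. -/
theorem exists_retraction (I : Ideal R) : ∃ ρ : R →ₗ[k] ↥I, ∀ x : ↥I, ρ x = x := by
  obtain ⟨g, hg⟩ := LinearMap.exists_leftInverse_of_injective ((I.restrictScalars k).subtype)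
    (LinearMap.ker_eq_bot.2 Subtype.val_injective)
  exact ⟨g, fun x => LinearMap.congr_fun hg x⟩

noncomputable def retr (I : Ideal R) : R →ₗ[k] ↥I := (exists_retraction I).choose

theorem retr_apply (I : Ideal R) (x : ↥I) : retr (k := k) I x = x := (exists_retraction I).choose_spec x

/-- The functional on `R` attached to a functional on `I / 𝔪 I`. -/
noncomputable def theta (φ : Module.Dual k (W (RingHom.ker ε) (eqI J S))) : R →ₗ[k] k :=
  φ ∘ₗ ((RingHom.ker ε • ⊤ : Submodule R ↥(eqI J S)).mkQ.restrictScalars k) ∘ₗ retr (eqI J S)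

theorem theta_apply (φ : Module.Dual k (W (RingHom.ker ε) (eqI J S))) (x : ↥(eqI J S)) :
    theta J S ε φ x = φ (Submodule.Quotient.mk x) := by
  change φ (Submodule.Quotient.mk (retr (k := k) (eqI J S) x)) = _
  rw [retr_apply]

theorem theta_mul (φ : Module.Dual k (W (RingHom.ker ε) (eqI J S))) (r x : R) (hx : x ∈ eqI J S) :
    theta J S ε φ (r * x) = ε r * theta J S ε φ x := by
  have h1 := theta_apply J S ε φ ⟨r * x, (eqI J S).mul_mem_left r hx⟩
  have h2 := theta_apply J S ε φ ⟨x, hx⟩
  rw [h2, h1]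
  have h3 : (Submodule.Quotient.mk ⟨r * x, (eqI J S).mul_mem_left r hx⟩ : W (RingHom.ker ε) (eqI J S)) =
      ε r • (Submodule.Quotient.mk ⟨x, hx⟩ : W (RingHom.ker ε) (eqI J S)) := by
    rw [← smul_W (sub_mem_ker ε r)]
    rfl
  rw [h3, map_smul, smul_eq_mul]

/-- The functional `ν_φ` on `J`. -/
noncomputable def nu (φ : Module.Dual k (W (RingHom.ker ε) (eqI J S))) (G : MvPolynomial σ k) : K :=
  ext K (theta J S ε φ) (aeval S G)

theorem nu_add (φ : Module.Dual k (W (RingHom.ker ε) (eqI J S))) (G G' : MvPolynomial σ k) :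
    nu J S ε φ (G + G') = nu J S ε φ G + nu J S ε φ G' := by
  rw [nu, map_add, map_add]
  rfl

theorem nu_mul (φ : Module.Dual k (W (RingHom.ker ε) (eqI J S))) {G : MvPolynomial σ k} (hG : G ∈ J)
    (H : MvPolynomial σ k) : nu J S ε φ (H * G) = aeval (val S ε) H * nu J S ε φ G := by
  rw [nu, map_mul, ext_mul_of_mem ε (eqI J S) _ (fun r x hx => theta_mul J S ε φ r x hx) _ _
    (aeval_mem_range J S hG), evB_aeval]
  rfl

theorem nu_eq_zero (φ : Module.Dual k (W (RingHom.ker ε) (eqI J S))) (h : ∀ G ∈ J, nu J S ε φ G = 0) : φ = 0 := by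
  have h1 : ∀ x ∈ eqI J S, theta J S ε φ x = 0 := by
    intro x hx
    refine Submodule.span_induction (p := fun x _ => theta J S ε φ x = 0) ?_ ?_ ?_ ?_ hx
    · rintro _ ⟨G, hG, lam, rfl⟩
      rw [← con_ext]
      have := h G hG
      rw [nu] at this
      rw [this, map_zero]
    · rw [map_zero]
    · intro x y _ _ hx hy
      rw [map_add, hx, hy, add_zero]
    · intro a x hx' hx
      rw [smul_eq_mul, theta_mul J S ε φ a x hx', hx, mul_zero]
  refine LinearMap.ext fun w => ?_
  obtain ⟨x, rfl⟩ := Submodule.Quotient.mk_surjective _ w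
  rw [← theta_apply, h1 x.1 x.2]
  rfl

/-- The functionals as a linear map. -/
noncomputable def nuL : Module.Dual k (W (RingHom.ker ε) (eqI J S)) →ₗ[k] (J → K) where
  toFun φ G := nu J S ε φ G
  map_add' φ φ' := by
    funext G
    have h1 : theta J S ε (φ + φ') = theta J S ε φ + theta J S ε φ' := rfl
    change nu J S ε (φ + φ') G = nu J S ε φ G + nu J S ε φ' G
    rw [nu, h1, ext_add_left]
    rfl
  map_smul' c φ := by
    funext G
    have h1 : theta J S ε (c • φ) = c • theta J S ε φ := rfl
    change nu J S ε (c • φ) G = c • nu J S ε φ G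
    rw [nu, h1, ext_smul_left]
    rfl

theorem nuL_injective : Function.Injective (nuL J S ε) := by
  rw [injective_iff_map_eq_zero]
  intro φ hφ
  exact nu_eq_zero J S ε φ fun G hG => congrFun hφ ⟨G, hG⟩

/-- The bound: if all the functionals come from an `h`-dimensional space, `h < M`, then the equations hold along a curve
through the point. -/
theorem exists_curve {M : ℕ} (S : σ → K ⊗[k] MvPolynomial (Fin M) k) (ε : MvPolynomial (Fin M) k →ₐ[k] k)
    (h0 : ∀ G ∈ J, aeval (val S ε) G = 0) {V : Type*} [AddCommGroup V] [Module k V] [FiniteDimensional k V]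
    (D : V →ₗ[k] (J → K)) (hD : Function.Injective D)
    (hr : ∀ φ : Module.Dual k (W (RingHom.ker ε) (eqI J S)), ∃ q : V, ∀ G, D q G = nu J S ε φ G.1)
    (hM : Module.finrank k V < M) :
    ∃ 𝔮 : Ideal (MvPolynomial (Fin M) k), 𝔮.IsPrime ∧ eqI J S ≤ 𝔮 ∧ 𝔮 < RingHom.ker ε ∧
      ringKrullDim (MvPolynomial (Fin M) k ⧸ 𝔮) = 1 := by
  have hsurj : Function.Surjective ε := fun c => ⟨algebraMap k _ c, by rw [AlgHom.commutes]; rfl⟩
  have : (RingHom.ker ε).IsMaximal := RingHom.ker_isMaximal_of_surjective (ε : MvPolynomial (Fin M) k →+* k) hsurj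
  have hrange : ∀ φ, nuL J S ε φ ∈ LinearMap.range D := fun φ => by
    obtain ⟨q, hq⟩ := hr φ
    exact ⟨q, funext hq⟩
  let Ψ : Module.Dual k (W (RingHom.ker ε) (eqI J S)) →ₗ[k] V :=
    (LinearEquiv.ofInjective D hD).symm.toLinearMap ∘ₗ (nuL J S ε).codRestrict _ hrange
  have hΨ : Function.Injective Ψ := by
    intro a b h
    have h' := (LinearEquiv.ofInjective D hD).symm.injective h
    exact nuL_injective J S ε (congrArg Subtype.val h')
  obtain ⟨t, ht, ht', hc⟩ := exists_generators (fun r => ⟨ε r, sub_mem_ker ε r⟩) Ψ hΨ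
  exact exists_prime_dim_one (RingHom.ker ε) _ (eqI_le J S ε h0) t ht ht' (by omega)

end Main

end K756.TupFun
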