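import Groth.Agent.Curves.K756.EDef
import Groth.Agent.Curves.K756.LatNum
import Groth.Agent.Curves.K756.Coord
import Groth.Agent.Curves.K756.TupFun

/-!
# Tuples with parameters on a curve: local form and obstructions

For `e_1, .., e_M` in `⋂ Es s B z` the tuple `S = s + ∑ e_a t_a` is at every point `z` of the form `c w` with `w`
a tuple in `O_z ⊗ k[t]` (`exists_local`); the functionals `nu` come from the lattice `Es s B` (`exists_grad`).
-/

set_option autoImplicit false
set_option linter.unusedSectionVars false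
universe u
open CategoryTheory CategoryTheory.Limits AlgebraicGeometry TopologicalSpace Opposite TensorProduct

noncomputable section

namespace K756.TupLoc

open K756.FamDef K756.LocLift K756.Coord K756.EDef K756.TupFun K756.ParKrull

section alg

variable {k : Type u} [Field k] {O : Type u} [CommRing O] [Algebra k O] {R : Type u} [CommRing R] [Algebra k R]
  {σ : Type}

theorem aeval_sub_mem {T : Type u} [CommRing T] [Algebra k T] (I : Ideal T) (w w' : σ → T)
    (h : ∀ l, w l - w' l ∈ I) (G : MvPolynomial σ k) :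
    MvPolynomial.aeval w G - MvPolynomial.aeval w' G ∈ I := by
  rw [← Ideal.Quotient.mk_eq_mk_iff_sub_mem]
  have h1 : ∀ v : σ → T, Ideal.Quotient.mk I (MvPolynomial.aeval v G) =
      MvPolynomial.aeval (fun l => Ideal.Quotient.mk I (v l)) G := fun v => by
    have := congrArg (fun φ => φ G) (MvPolynomial.comp_aeval (R := k) v (Ideal.Quotient.mkₐ k I))
    exact this
  rw [h1, h1]
  congr 2
  funext l
  exact (Ideal.Quotient.mk_eq_mk_iff_sub_mem _ _).mpr (h l)

theorem ext_tmul_mul (θ : R →ₗ[k] k) (o : O) (r : R) (x : O ⊗[k] R) :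
    ext O θ ((o ⊗ₜ[k] r) * x) = o * ext O (θ ∘ₗ LinearMap.mulLeft k r) x := by
  induction x with
  | zero => simp
  | add p q hp hq => rw [mul_add, map_add, map_add, mul_add, hp, hq]
  | tmul o' r' =>
    rw [Algebra.TensorProduct.tmul_mul_tmul, ext_tmul, ext_tmul, LinearMap.comp_apply,
      LinearMap.mulLeft_apply, Algebra.smul_def, Algebra.smul_def]
    ring

theorem ext_mem (I : Ideal O) (w : O ⊗[k] R)
    (hw : w ∈ I.map (Algebra.TensorProduct.includeLeft : O →ₐ[k] O ⊗[k] R)) (θ : R →ₗ[k] k) : ext O θ w ∈ I := by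
  refine Submodule.span_induction (p := fun w _ => ∀ θ : R →ₗ[k] k, ext O θ w ∈ I) ?_ ?_ ?_ ?_ hw θ
  · rintro _ ⟨m, hm, rfl⟩ θ
    change ext O θ (m ⊗ₜ[k] (1 : R)) ∈ I
    rw [ext_tmul, Algebra.smul_def]
    exact I.mul_mem_left _ hm
  · intro θ
    rw [map_zero]
    exact I.zero_mem
  · intro x y _ _ hx hy θ
    rw [map_add]
    exact I.add_mem (hx θ) (hy θ)
  · intro a x _ hx θ
    induction a with
    | zero =>
      rw [zero_smul, map_zero]
      exact I.zero_mem
    | add p q hp hq =>
      rw [add_smul, map_add]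
      exact I.add_mem hp hq
    | tmul o r =>
      rw [smul_eq_mul, ext_tmul_mul]
      exact I.mul_mem_left _ (hx _)

theorem aeval_tmul {n : ℕ} (b : σ → O) (a : R) {G : MvPolynomial σ k} (hG : G.IsHomogeneous n) :
    MvPolynomial.aeval (fun l => b l ⊗ₜ[k] a) G = MvPolynomial.aeval b G ⊗ₜ[k] (a ^ n) := by
  have h1 : (fun l => b l ⊗ₜ[k] a) = fun l => ((1 : O) ⊗ₜ[k] a) * (b l ⊗ₜ[k] (1 : R)) := by
    funext l
    rw [Algebra.TensorProduct.tmul_mul_tmul, one_mul, mul_one]
  have h2 : MvPolynomial.aeval (fun l => b l ⊗ₜ[k] (1 : R)) G = MvPolynomial.aeval b G ⊗ₜ[k] (1 : R) :=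
    (congrArg (fun φ => φ G) (MvPolynomial.comp_aeval (R := k) b
      (Algebra.TensorProduct.includeLeft : O →ₐ[k] O ⊗[k] R))).symm
  rw [h1, aeval_smul _ _ hG, h2, Algebra.TensorProduct.tmul_pow, Algebra.TensorProduct.tmul_mul_tmul, one_pow,
    one_mul, mul_one]

end alg

attribute [local instance] Curv2.stalkAlgebra

section curve

variable (k : Type u) [Field k] {C : Scheme.{u}} [C.Over (Spec (CommRingCat.of k))] [IsIntegral C] {N : ℕ}

/-- Elements of `Es s B z` in terms of local coordinates. -/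
theorem exists_loc_of_mem_Es (B₀ : Finset C) {s : Fin (N + 1) → C.functionField} {z : C} (c : C.functionField)
    (b : Fin (N + 1) → C.presheaf.stalk z)
    (hs : ∀ l, s l = c * algebraMap (C.presheaf.stalk z) C.functionField (b l)) (i : Fin (N + 1))
    (hi : IsUnit (b i)) (hres : z ∈ B₀ → ∀ a : C.presheaf.stalk z, ∃ r : k,
      a - algebraMap k (C.presheaf.stalk z) r ∈ IsLocalRing.maximalIdeal (C.presheaf.stalk z))
    (e : Fin (N + 1) → C.functionField) (he : e ∈ Es s B₀ z) :
    ∃ u : Fin (N + 1) → C.presheaf.stalk z,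
      (∀ l, e l = c * algebraMap (C.presheaf.stalk z) C.functionField (u l)) ∧
      (z ∈ B₀ → ∃ r : k, ∀ l, u l - r • b l ∈ IsLocalRing.maximalIdeal (C.presheaf.stalk z)) := by
  by_cases hz : z ∈ B₀
  · rw [Es_of_mem s hz, Submodule.mem_sup] at he
    obtain ⟨e1, h1, e2, h2, rfl⟩ := he
    obtain ⟨a, rfl⟩ := Submodule.mem_span_singleton.mp h1
    have h3 : ∃ u : Fin (N + 1) → C.presheaf.stalk z, (∀ l, u l ∈ IsLocalRing.maximalIdeal (C.presheaf.stalk z)) ∧
        ∀ l, e2 l = c * algebraMap (C.presheaf.stalk z) C.functionField (u l) := by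
      refine Submodule.smul_induction_on h2 ?_ ?_
      · intro m hm v hv
        choose u hu using fun l => (mem_fr_iff c b hs i hi _).mp (hv l)
        refine ⟨fun l => m * u l, fun l => Ideal.mul_mem_right _ _ hm, fun l => ?_⟩
        rw [Pi.smul_apply, hu l, Algebra.smul_def, map_mul]
        ring
      · rintro v v' ⟨u, hu, hu'⟩ ⟨w, hw, hw'⟩
        refine ⟨fun l => u l + w l, fun l => Ideal.add_mem _ (hu l) (hw l), fun l => ?_⟩
        rw [Pi.add_apply, hu' l, hw' l, map_add]
        ring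
    obtain ⟨u, hu, hu'⟩ := h3
    obtain ⟨r, hr⟩ := hres hz a
    refine ⟨fun l => a * b l + u l, fun l => ?_, fun _ => ⟨r, fun l => ?_⟩⟩
    · rw [Pi.add_apply, Pi.smul_apply, hs l, hu' l, Algebra.smul_def, map_add, map_mul]
      ring
    · have h4 : a * b l + u l - r • b l = (a - algebraMap k _ r) * b l + u l := by
        rw [Algebra.smul_def]
        ring
      rw [h4]
      exact Ideal.add_mem _ (Ideal.mul_mem_right _ _ hr) (hu l)
  · rw [Es_of_notMem s hz] at he
    choose u hu using fun l => (mem_fr_iff c b hs i hi _).mp (he l)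
    exact ⟨u, hu, fun h => absurd h hz⟩

variable {M : ℕ} (s : Fin (N + 1) → C.functionField) (e : Fin M → Fin (N + 1) → C.functionField)

/-- The tuple with parameters. -/
def tup (l : Fin (N + 1)) : C.functionField ⊗[k] MvPolynomial (Fin M) k :=
  s l ⊗ₜ[k] 1 + ∑ a, e a l ⊗ₜ[k] MvPolynomial.X a

/-- Evaluation at the origin. -/
def ev0 (k : Type u) [Field k] (M : ℕ) : MvPolynomial (Fin M) k →ₐ[k] k := MvPolynomial.aeval (fun _ => 0)

theorem val_tup (l : Fin (N + 1)) : TupFun.val (tup k s e) (ev0 k M) l = s l := by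
  rw [TupFun.val, tup, map_add, map_sum, evB_tmul, map_one, map_one, mul_one]
  have : ∀ a : Fin M, evB C.functionField (ev0 k M) (e a l ⊗ₜ[k] MvPolynomial.X a) = 0 := fun a => by
    rw [evB_tmul, ev0, MvPolynomial.aeval_X, map_zero, mul_zero]
  simp only [this, Finset.sum_const_zero, add_zero]

/-- The local form of the tuple. -/
theorem exists_local (B₀ : Finset C) {z : C} (c : C.functionField) (b : Fin (N + 1) → C.presheaf.stalk z)
    (hs : ∀ l, s l = c * algebraMap (C.presheaf.stalk z) C.functionField (b l)) (i : Fin (N + 1))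
    (hi : IsUnit (b i)) (hres : z ∈ B₀ → ∀ a : C.presheaf.stalk z, ∃ r : k,
      a - algebraMap k (C.presheaf.stalk z) r ∈ IsLocalRing.maximalIdeal (C.presheaf.stalk z))
    (he : ∀ a, e a ∈ Es s B₀ z) :
    ∃ w : Fin (N + 1) → C.presheaf.stalk z ⊗[k] MvPolynomial (Fin M) k,
      (∀ l, evA k (C.presheaf.stalk z) (ev0 k M) (w l) = b l) ∧
      (∀ l, tup k s e l = (c ⊗ₜ[k] 1) * extA k (MvPolynomial (Fin M) k) C z (w l)) ∧
      (z ∈ B₀ → ∃ a : MvPolynomial (Fin M) k, ∀ l, w l - b l ⊗ₜ[k] a ∈
        (IsLocalRing.maximalIdeal (C.presheaf.stalk z)).map (Algebra.TensorProduct.includeLeft :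
          C.presheaf.stalk z →ₐ[k] C.presheaf.stalk z ⊗[k] MvPolynomial (Fin M) k)) := by
  choose u hu hu' using fun a => exists_loc_of_mem_Es k B₀ c b hs i hi hres (e a) (he a)
  refine ⟨fun l => b l ⊗ₜ[k] 1 + ∑ a, u a l ⊗ₜ[k] MvPolynomial.X a, fun l => ?_, fun l => ?_, fun hz => ?_⟩
  · rw [map_add, map_sum, evA_tmul, map_one, one_smul]
    have : ∀ a : Fin M, evA k (C.presheaf.stalk z) (ev0 k M) (u a l ⊗ₜ[k] MvPolynomial.X a) = 0 := fun a => by
      rw [evA_tmul, ev0, MvPolynomial.aeval_X, zero_smul]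
    simp only [this, Finset.sum_const_zero, add_zero]
  · rw [tup, map_add, map_sum, mul_add, Finset.mul_sum]
    congr 1
    · rw [extA, Algebra.TensorProduct.map_tmul, Algebra.TensorProduct.tmul_mul_tmul, map_one, mul_one, hs l]
      rfl
    · refine Finset.sum_congr rfl fun a _ => ?_
      rw [extA, Algebra.TensorProduct.map_tmul, Algebra.TensorProduct.tmul_mul_tmul, one_mul, hu a l]
      rfl
  · choose r hr using fun a => hu' a hz
    refine ⟨1 + ∑ a, r a • MvPolynomial.X a, fun l => ?_⟩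
    have h1 : b l ⊗ₜ[k] (1 : MvPolynomial (Fin M) k) + ∑ a, u a l ⊗ₜ[k] MvPolynomial.X a -
        b l ⊗ₜ[k] (1 + ∑ a, r a • MvPolynomial.X a : MvPolynomial (Fin M) k) =
        ∑ a, ((u a l - r a • b l) ⊗ₜ[k] (1 : MvPolynomial (Fin M) k)) * ((1 : C.presheaf.stalk z) ⊗ₜ[k] MvPolynomial.X a) := by
      rw [TensorProduct.tmul_add, TensorProduct.tmul_sum]
      have h2 : ∀ a, ((u a l - r a • b l) ⊗ₜ[k] (1 : MvPolynomial (Fin M) k)) *
          ((1 : C.presheaf.stalk z) ⊗ₜ[k] MvPolynomial.X a) =
          u a l ⊗ₜ[k] MvPolynomial.X a - b l ⊗ₜ[k] (r a • MvPolynomial.X a) := fun a => by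
        rw [Algebra.TensorProduct.tmul_mul_tmul, one_mul, mul_one, TensorProduct.sub_tmul, TensorProduct.smul_tmul]
      simp only [h2, Finset.sum_sub_distrib]
      abel
    rw [h1]
    refine Ideal.sum_mem _ fun a _ => Ideal.mul_mem_right _ _ ?_
    exact Ideal.mem_map_of_mem (Algebra.TensorProduct.includeLeft :
      C.presheaf.stalk z →ₐ[k] C.presheaf.stalk z ⊗[k] MvPolynomial (Fin M) k) (hr a l)

/-- Elements with entries in `c 𝔪_z` (or `c O_z` if `z ∉ B`) belong to `Es s B z`. -/
theorem mem_Es {s : Fin (N + 1) → C.functionField} {z : C} (c : C.functionField)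
    (b : Fin (N + 1) → C.presheaf.stalk z)
    (hs : ∀ l, s l = c * algebraMap (C.presheaf.stalk z) C.functionField (b l)) (i : Fin (N + 1))
    (hi : IsUnit (b i)) (B : Finset C) (u : Fin (N + 1) → C.presheaf.stalk z)
    (hu : z ∈ B → ∀ l, u l ∈ IsLocalRing.maximalIdeal (C.presheaf.stalk z)) :
    (fun l => c * algebraMap (C.presheaf.stalk z) C.functionField (u l)) ∈ Es s B z := by
  classical
  by_cases hz : z ∈ B
  · rw [Es_of_mem s hz]
    apply Submodule.mem_sup_right
    have h1 : (fun l => c * algebraMap (C.presheaf.stalk z) C.functionField (u l)) =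
        ∑ l, u l • (Pi.single l c : Fin (N + 1) → C.functionField) := by
      funext m
      rw [Finset.sum_apply, Finset.sum_eq_single m]
      · rw [Pi.smul_apply, Pi.single_eq_same, Algebra.smul_def, mul_comm]
      · intro l _ hl
        rw [Pi.smul_apply, Pi.single_eq_of_ne hl.symm, smul_zero]
      · intro h
        exact absurd (Finset.mem_univ m) h
    rw [h1]
    refine Submodule.sum_mem _ fun l _ => Submodule.smul_mem_smul (hu hz l) fun m => ?_
    by_cases hml : m = l
    · subst hml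
      rw [Pi.single_eq_same]
      exact (mem_fr_iff c b hs i hi _).mpr ⟨1, by rw [map_one, mul_one]⟩
    · rw [Pi.single_eq_of_ne hml]
      exact (fr s z).zero_mem
  · rw [Es_of_notMem s hz]
    exact fun l => (mem_fr_iff c b hs i hi _).mpr ⟨u l, rfl⟩

end curve

section grad

variable (k : Type u) [Field k] {X : Scheme.{u}} [X.Over (Spec (CommRingCat.of k))] [IsIntegral X]
  {C : Scheme.{u}} [C.Over (Spec (CommRingCat.of k))] [IsIntegral C] {N : ℕ}
  {ι : X ⟶ CohB1.ProjSpace N k} [IsPreimmersion ι]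

/-- The obstructions come from the lattice `Es s B`. -/
theorem exists_grad (f : C ⟶ X) (hf : f ≫ (X ↘ Spec (CommRingCat.of k)) = C ↘ Spec (CommRingCat.of k)) (z : C)
    (hsm : Algebra.FormallySmooth k (X.presheaf.stalk (f z)))
    (x : Fin (N + 1) → X.presheaf.stalk (f z)) (i : Fin (N + 1)) (hxi : x i = 1) (hx : IsCoord k ι (f z) x)
    {s : Fin (N + 1) → C.functionField} (c : C.functionField) (hc : c ≠ 0)
    (hs : ∀ l, s l = c * algebraMap (C.presheaf.stalk z) C.functionField (stAlg k f hf z (x l)))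
    (B : Finset C) {R : Type u} [CommRing R] [Algebra k R] (ε : R →ₐ[k] k)
    (S : Fin (N + 1) → C.functionField ⊗[k] R) (hS : ∀ l, TupFun.val S ε l = s l)
    (w : Fin (N + 1) → C.presheaf.stalk z ⊗[k] R)
    (hw : ∀ l, S l = (c ⊗ₜ[k] 1) * extA k R C z (w l))
    (hwB : z ∈ B → ∃ a : R, ∀ l, w l - stAlg k f hf z (x l) ⊗ₜ[k] a ∈
        (IsLocalRing.maximalIdeal (C.presheaf.stalk z)).map (Algebra.TensorProduct.includeLeft :
          C.presheaf.stalk z →ₐ[k] C.presheaf.stalk z ⊗[k] R))
    (φ : Module.Dual k (W (RingHom.ker ε) (eqI (coneI (k := k) x) S))) :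
    ∃ v ∈ Es s B z, ∀ G ∈ coneI (k := k) x,
      ∑ l, MvPolynomial.aeval s (MvPolynomial.pderiv l G) * v l = nu (coneI (k := k) x) S ε φ G := by
  classical
  let st := stAlg k f hf z
  let I : Ideal (C.presheaf.stalk z) := if z ∈ B then IsLocalRing.maximalIdeal (C.presheaf.stalk z) else ⊤
  let _ : Module (X.presheaf.stalk (f z)) I :=
    Module.compHom I (st : X.presheaf.stalk (f z) →+* C.presheaf.stalk z)
  let j : I →+ C.functionField :=
    (algebraMap (C.presheaf.stalk z) C.functionField).toAddMonoidHom.comp (Submodule.subtype I).toAddMonoidHom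
  have hjv : ∀ m : I, j m = algebraMap (C.presheaf.stalk z) C.functionField m.1 := fun _ => rfl
  have hinj : Function.Injective (algebraMap (C.presheaf.stalk z) C.functionField) :=
    IsFractionRing.injective (C.presheaf.stalk z) C.functionField
  let χ : X.presheaf.stalk (f z) →ₐ[k] C.functionField := (spAlg k C z).comp st
  have hI1 : ∀ m : C.presheaf.stalk z, (z ∈ B → m ∈ IsLocalRing.maximalIdeal (C.presheaf.stalk z)) → m ∈ I := by
    intro m hm
    by_cases hz : z ∈ B
    · rw [show I = _ from if_pos hz]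
      exact hm hz
    · rw [show I = _ from if_neg hz]
      trivial
  have hI2 : ∀ m ∈ I, z ∈ B → m ∈ IsLocalRing.maximalIdeal (C.presheaf.stalk z) := by
    intro m hm hz
    rwa [show I = _ from if_pos hz] at hm
  obtain ⟨m, hm⟩ := exists_lift (k := k) (σ := Fin (N + 1)) (P := X.presheaf.stalk (f z)) (K := C.functionField)
    (M := I) i x hxi (fun p => exists_frac k hxi hx p) χ c hc s hs j
    (fun a b h => Subtype.ext (hinj h))
    (fun p m => by
      change algebraMap (C.presheaf.stalk z) C.functionField (st p * m.1) = _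
      rw [map_mul]
      rfl)
    (nu (coneI (k := k) x) S ε φ) (fun G _ G' _ => nu_add _ S ε φ G G')
    (fun G hG H => by
      rw [nu_mul _ S ε φ hG]
      congr 2
      exact congrArg (fun t => MvPolynomial.aeval (R := k) t) (funext hS) ▸ rfl)
    (fun n G hG hGn => by
      have h1 : MvPolynomial.aeval S G = ((c ^ n) ⊗ₜ[k] (1 : R)) * extA k R C z (MvPolynomial.aeval w G) := by
        rw [show S = fun l => (c ⊗ₜ[k] 1) * extA k R C z (w l) from funext hw, aeval_smul _ _ hGn,
          Algebra.TensorProduct.tmul_pow, one_pow]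
        congr 1
        exact (congrArg (fun φ => φ G) (MvPolynomial.comp_aeval (R := k) w (extA k R C z))).symm
      refine ⟨⟨ext (C.presheaf.stalk z) (theta _ S ε φ) (MvPolynomial.aeval w G), hI1 _ fun hz => ?_⟩, ?_⟩
      · obtain ⟨a, ha⟩ := hwB hz
        apply ext_mem
        have h2 := aeval_sub_mem (k := k) _ w (fun l => stAlg k f hf z (x l) ⊗ₜ[k] a) ha G
        have h3 : MvPolynomial.aeval (fun l => stAlg k f hf z (x l) ⊗ₜ[k] a) G = 0 := by
          rw [aeval_tmul _ _ hGn]
          have h4 : MvPolynomial.aeval (fun l => stAlg k f hf z (x l)) G = stAlg k f hf z (MvPolynomial.aeval x G) :=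
            (congrArg (fun φ => φ G) (MvPolynomial.comp_aeval (R := k) x (stAlg k f hf z))).symm
          rw [h4, LocLift.aeval_eq_zero hG, map_zero, TensorProduct.zero_tmul]
        rwa [h3, sub_zero] at h2
      · rw [nu, h1, ext_mul_left, extA, ext_map]
        rfl)
  refine ⟨fun l => c * algebraMap (C.presheaf.stalk z) C.functionField (m l).1, ?_, hm⟩
  exact mem_Es c _ hs i (by rw [hxi, map_one]; exact isUnit_one) B _ fun hz l => hI2 _ (m l).2 hz

end grad

end K756.TupLoc

end
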